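import Cfsg.Agent.H321.Mono.Triple

/-!
# S2187, X4: three commuting frames permuted by `E`

* `Dg ψ h` : `x ↦ ψ x · h ψ x h⁻¹ · h² ψ x h⁻²`;
* `nine_fix` : `E` elementary abelian of exponent 3, `f ∈ E` shifts the frame of `ψ`, `g ∈ E` moves `ψ (SL₃(k))` to a commuting
  group, every element of `E` is a shift up to a power of `g`: the fixed points `ψ x`, `x ∈ FixG`, are in `H`.
* `nine_mem` : the form for `r`-elements.
-/

set_option autoImplicit false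
set_option linter.unusedSectionVars false

universe u

namespace Cfsg.Agent.H321.Mono

open Cfsg Cfsg.Geo Cfsg.Agent.H321.Ker
open scoped MatrixGroups Matrix commutatorElement
open Matrix.SpecialLinearGroup (toGL transvection)

section Dg

variable {S Y : Type*} [Group S] [Group Y]

/-- the diagonal of three commuting copies -/
def Dg (ψ : S →* Y) (h : Y) (h3 : h ^ 3 = 1) (hc : ∀ x y, Commute (ψ x) (h * ψ y * h⁻¹)) : S →* Y where
  toFun x := ψ x * (h * ψ x * h⁻¹) * (h ^ 2 * ψ x * (h ^ 2)⁻¹)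
  map_one' := by simp
  map_mul' x y := by
    have c01 : ∀ x y, Commute (ψ x) (h * ψ y * h⁻¹) := hc
    have c12 : ∀ x y, Commute (h * ψ x * h⁻¹) (h ^ 2 * ψ y * (h ^ 2)⁻¹) := by
      intro x y
      have h1 := (hc x y).map (MulAut.conj h)
      have h2 : MulAut.conj h (h * ψ y * h⁻¹) = h ^ 2 * ψ y * (h ^ 2)⁻¹ := by
        rw [MulAut.conj_apply, pow_two]; group
      rwa [h2, MulAut.conj_apply] at h1
    have c02 : ∀ x y, Commute (ψ x) (h ^ 2 * ψ y * (h ^ 2)⁻¹) := by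
      intro x y
      have h1 := (hc y x).map (MulAut.conj (h ^ 2))
      have h2 : MulAut.conj (h ^ 2) (h * ψ x * h⁻¹) = ψ x := by
        rw [MulAut.conj_apply]
        calc h ^ 2 * (h * ψ x * h⁻¹) * (h ^ 2)⁻¹ = h ^ 3 * ψ x * (h ^ 3)⁻¹ := by rw [pow_succ h 2]; group
          _ = _ := by rw [h3]; group
      rw [h2, MulAut.conj_apply] at h1
      exact h1.symm
    have e1 : h * ψ (x * y) * h⁻¹ = (h * ψ x * h⁻¹) * (h * ψ y * h⁻¹) := by rw [map_mul]; group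
    have e2 : h ^ 2 * ψ (x * y) * (h ^ 2)⁻¹ = (h ^ 2 * ψ x * (h ^ 2)⁻¹) * (h ^ 2 * ψ y * (h ^ 2)⁻¹) := by
      rw [map_mul]; group
    rw [e1, e2, map_mul]
    generalize ha : h * ψ x * h⁻¹ = a
    generalize hb : h * ψ y * h⁻¹ = b
    generalize hd : h ^ 2 * ψ x * (h ^ 2)⁻¹ = d
    generalize hd' : h ^ 2 * ψ y * (h ^ 2)⁻¹ = d'
    have f1 : Commute (ψ y) a := by rw [← ha]; exact c01 _ _
    have f2 : Commute (ψ y * b) d := by
      rw [← hb, ← hd]; exact (c02 _ _).mul_left (c12 _ _)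
    calc ψ x * ψ y * (a * b) * (d * d') = ψ x * (ψ y * a) * b * (d * d') := by group
      _ = ψ x * a * (ψ y * b * d) * d' := by rw [f1.eq]; group
      _ = _ := by rw [f2.eq]; group

variable {ψ : S →* Y} {h : Y} {h3 : h ^ 3 = 1} {hc : ∀ x y, Commute (ψ x) (h * ψ y * h⁻¹)}

theorem Dg_apply (x : S) : Dg ψ h h3 hc x = ψ x * (h * ψ x * h⁻¹) * (h ^ 2 * ψ x * (h ^ 2)⁻¹) := rfl

theorem comm02 (h3 : h ^ 3 = 1) (hc : ∀ x y, Commute (ψ x) (h * ψ y * h⁻¹)) (x y : S) :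
    Commute (ψ x) (h ^ 2 * ψ y * (h ^ 2)⁻¹) := by
  have h1 := (hc y x).map (MulAut.conj (h ^ 2))
  have h2 : MulAut.conj (h ^ 2) (h * ψ x * h⁻¹) = ψ x := by
    rw [MulAut.conj_apply]
    calc h ^ 2 * (h * ψ x * h⁻¹) * (h ^ 2)⁻¹ = h ^ 3 * ψ x * (h ^ 3)⁻¹ := by rw [pow_succ h 2]; group
      _ = _ := by rw [h3]; group
  rw [h2, MulAut.conj_apply] at h1
  exact h1.symm

theorem comm12 (hc : ∀ x y, Commute (ψ x) (h * ψ y * h⁻¹)) (x y : S) :
    Commute (h * ψ x * h⁻¹) (h ^ 2 * ψ y * (h ^ 2)⁻¹) := by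
  have h1 := (hc x y).map (MulAut.conj h)
  have h2 : MulAut.conj h (h * ψ y * h⁻¹) = h ^ 2 * ψ y * (h ^ 2)⁻¹ := by
    rw [MulAut.conj_apply, pow_two]; group
  rwa [h2, MulAut.conj_apply] at h1

/-- automorphisms commuting with `h` -/
theorem Dg_map {θ : Y →* Y} (hθ : θ h = h) {x x' : S} (hx : θ (ψ x) = ψ x') :
    θ (Dg ψ h h3 hc x) = Dg ψ h h3 hc x' := by
  rw [Dg_apply, Dg_apply]
  simp only [map_mul, map_inv, map_pow, hθ, hx]

theorem Dg_conj {y : Y} (hy : y * h = h * y) {x x' : S} (hx : y * ψ x * y⁻¹ = ψ x') :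
    y * Dg ψ h h3 hc x * y⁻¹ = Dg ψ h h3 hc x' := by
  refine Dg_map (θ := (MulAut.conj y).toMonoidHom) ?_ hx
  show y * h * y⁻¹ = h
  rw [hy, mul_inv_cancel_right]

theorem Dg_self (x : S) : h * Dg ψ h h3 hc x * h⁻¹ = Dg ψ h h3 hc x := by
  rw [Dg_apply]
  have e1 : h * (ψ x * (h * ψ x * h⁻¹) * (h ^ 2 * ψ x * (h ^ 2)⁻¹)) * h⁻¹ =
      ((h * ψ x * h⁻¹) * (h ^ 2 * ψ x * (h ^ 2)⁻¹)) * (h ^ 3 * ψ x * (h ^ 3)⁻¹) := by
    rw [pow_succ h 2, pow_two]; group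
  rw [e1, h3, one_mul, inv_one, mul_one]
  have e2 : Commute ((h * ψ x * h⁻¹) * (h ^ 2 * ψ x * (h ^ 2)⁻¹)) (ψ x) :=
    ((hc x x).symm).mul_left (comm02 h3 hc x x).symm
  rw [e2.eq]
  group

end Dg

section Sh

variable {n : ℕ} [NeZero n] {k : Type u} [Field k] {Y : Type*} [Group Y]
  {ψ : Matrix.SpecialLinearGroup (Fin n) k →* Y} {h : Y} {h3 : h ^ 3 = 1}
  {hc : ∀ x y, Commute (ψ x) (h * ψ y * h⁻¹)}

theorem ShAct.dg {m : Fin n} {y : Y} (hy : y * h = h * y) (H : ShAct ψ m y) : ShAct (Dg ψ h h3 hc) m y := by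
  obtain ⟨c, hc0, hc'⟩ := H
  exact ⟨c, hc0, fun i j hij i' j' h' hi hj t => Dg_conj hy (hc' i j hij i' j' h' hi hj t)⟩

theorem ShAct.dg_self : ShAct (Dg ψ h h3 hc) 0 h := by
  refine ShAct.of_comm fun g => ?_
  have := Dg_self (h3 := h3) (hc := hc) g
  exact (mul_inv_eq_iff_eq_mul.1 this).symm

theorem Dg_inj (hn : 3 ≤ n) (hψ : ∃ g, ψ g ≠ 1) (i j : Fin n) (hij : i ≠ j) :
    Function.Injective fun t : k => Dg ψ h h3 hc (transvection hij t) := by
  intro s t hst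
  have h1 : Dg ψ h h3 hc ((transvection hij t)⁻¹ * transvection hij s) = 1 := by
    rw [map_mul, map_inv]
    have : Dg ψ h h3 hc (transvection hij s) = Dg ψ h h3 hc (transvection hij t) := hst
    rw [this, inv_mul_cancel]
  set z := (transvection hij t : Matrix.SpecialLinearGroup (Fin n) k)⁻¹ * transvection hij s with hz
  rw [Dg_apply, mul_assoc] at h1
  have h2 : ψ z = ((h * ψ z * h⁻¹) * (h ^ 2 * ψ z * (h ^ 2)⁻¹))⁻¹ := eq_inv_of_mul_eq_one_left h1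
  have h4 : ∀ w, ψ (z * w * z⁻¹) = ψ w := by
    intro w
    have h5 : Commute (ψ z) (ψ w) := by
      rw [h2]
      exact (((hc w z).symm).mul_left (comm02 h3 hc w z).symm).inv_left
    rw [map_mul, map_mul, map_inv, h5.eq, mul_inv_cancel_right]
  have h5 : ∀ w, z * w * z⁻¹ = w := eq_of_psi hn hψ (f := (MulAut.conj z).toMonoidHom) (g := MonoidHom.id _) h4
  -- `z` is a transvection commuting with everything
  have h6 : toGL z ∈ scalars (Fin n) k := by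
    refine scalar_of_comm fun i j hij t => ?_
    rw [← map_mul, ← map_mul]
    congr 1
    exact mul_inv_eq_iff_eq_mul.1 (h5 (transvection hij t))
  have hz' : toGL z = toGL (transvection hij (s - t)) := by
    rw [hz, Matrix.SpecialLinearGroup.transvection_inv, map_mul]
    apply Units.ext
    rw [Units.val_mul, coe_transvection, coe_transvection, coe_transvection, add_mul, mul_add, mul_add, one_mul, one_mul,
      mul_one, Matrix.single_mul_single_of_ne (h := hij.symm), add_zero, sub_eq_add_neg, Matrix.single_add]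
    abel
  obtain ⟨c, hc'⟩ := mem_scalars_iff_sc.1 h6
  rw [hz'] at hc'
  have h7 := congrArg (fun x : GL (Fin n) k => (x : Matrix (Fin n) (Fin n) k) i j) hc'
  have h8 : (toGL (transvection hij (s - t)) : Matrix (Fin n) (Fin n) k) i j = (sc n c : Matrix (Fin n) (Fin n) k) i j := h7
  rw [coe_transvection, sc_coe, Matrix.add_apply, Matrix.one_apply_ne hij, Matrix.smul_apply, Matrix.one_apply_ne hij,
    smul_zero, zero_add, Matrix.single_apply_same] at h8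
  exact sub_eq_zero.1 h8

end Sh

section Nine

variable [hp3 : Fact (Nat.Prime 3)] {k : Type u} [Field k] [IsAlgClosed k] {r e : ℕ} [Fact r.Prime]
  [CharP k r] {Y : Type*} [Group Y] {ψ : Matrix.SpecialLinearGroup (Fin 3) k →* Y} {E : Subgroup Y}

/-- **Three commuting frames permuted by `E`.** -/
theorem nine_fix (L : LinFacts.{u} 3) (U : UniFacts.{u} 3) (hr : r ≠ 2) (he : 0 < e)
    (hEp : ∀ a ∈ E, a ^ 3 = 1) (hEc : ∀ a ∈ E, ∀ b ∈ E, a * b = b * a)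
    (hinj : ∀ (i j : Fin 3) (hij : i ≠ j), Function.Injective fun t : k => ψ (transvection hij t))
    {σ : Y →* Y} (hEσ : ∀ x ∈ E, σ x = x) {D : GL (Fin 3) k} {uni : Bool}
    (hσ : ∀ g, σ (ψ g) = ψ (stm r e D uni g)) {f g : Y} (hf : f ∈ E) (hfs : ShAct ψ 1 f) (hg : g ∈ E)
    (hc : ∀ x y, Commute (ψ x) (g * ψ y * g⁻¹))
    (hE : ∀ x ∈ E, ∃ (i : ℕ) (m : Fin 3), ShAct ψ m (x * (g ^ i)⁻¹)) {H : Subgroup Y}
    (hH : ∀ F ≤ E, F.relIndex E = 3 → ∀ u ∈ Subgroup.closure {u : Y | σ u = u ∧ ∃ j : ℕ, u ^ r ^ j = 1},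
      (∀ x ∈ F, x * u = u * x) → u ∈ H)
    {x : Matrix.SpecialLinearGroup (Fin 3) k} (hx : stm r e D uni x = x) : ψ x ∈ H := by
  have hn : 3 ≤ 3 := le_rfl
  have hψ := exists_ne_one hn hinj
  have h32 : ¬ (3 = 3 ∧ r ^ e = 2) := not_three_two (Or.inr hr) he
  obtain ⟨d, hd⟩ := hfs.exists_mono (r := r) hn hinj
  set b := mono (Equiv.addRight (1 : Fin 3)) d with hb
  -- one diagonal
  have key : ∀ (h : Y) (hh : h ∈ E) (hc' : ∀ x y, Commute (ψ x) (h * ψ y * h⁻¹)),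
      (∀ x ∈ E, ∃ (i : ℕ) (m : Fin 3), ShAct ψ m (x * (h ^ i)⁻¹)) → ∀ y, stm r e D uni y = y →
      Dg ψ h (hEp h hh) hc' y ∈ H := by
    intro h hh hc' hE' y hy
    refine cyc_fix (by norm_num) L U (Or.inr hr) he hEp hEc (Dg_inj hn hψ) hEσ
      (fun z => Dg_map (hEσ h hh) (hσ z)) hf (hfs.dg (hEc f hf h hh)) (fun z hz => ?_) hH hy
    obtain ⟨i, m, h1⟩ := hE' z hz
    have h2 := (h1.dg (h3 := hEp h hh) (hc := hc') (hEc _ (mul_mem hz (inv_mem (pow_mem hh i))) h hh)).mul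
      ((ShAct.dg_self (h3 := hEp h hh) (hc := hc')).pow i)
    rw [inv_mul_cancel_right, smul_zero, zero_add] at h2
    exact ⟨m, h2⟩
  have k1 := key g hg hc hE
  have hgf : g * f ∈ E := mul_mem hg hf
  have hcf : ∀ x y, Commute (ψ x) (g * f * ψ y * (g * f)⁻¹) := by
    intro x y
    have h1 : g * f * ψ y * (g * f)⁻¹ = g * (f * ψ y * f⁻¹) * g⁻¹ := by group
    rw [h1, hd]
    exact hc _ _
  have k2 := key (g * f) hgf hcf (fun z hz => by
    obtain ⟨i, m, h1⟩ := hE z hz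
    have h2 := h1.mul (hfs.pow i).inv
    have h3 : z * (g ^ i)⁻¹ * (f ^ i)⁻¹ = z * ((g * f) ^ i)⁻¹ := by
      have h4 : Commute g f := hEc g hg f hf
      rw [h4.mul_pow, mul_inv_rev, ← (h4.pow_pow i i).inv_inv.eq, mul_assoc]
    rw [h3] at h2
    exact ⟨i, _, h2⟩)
  -- the automorphism
  have hst : ∀ y, stm r e D uni (cj b y) = cj b (stm r e D uni y) := comm_stm hn hψ hσ (hEσ f hf) hd
  let φ : ↥(FixG r e D uni) →* ↥(FixG r e D uni) :=
    ((cj b).toMonoidHom.comp (FixG r e D uni).subtype).codRestrict (FixG r e D uni) fun y => by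
      show stm r e D uni (cj b y.1) = cj b y.1
      rw [hst, mem_FixG.1 y.2]
  have hφv : ∀ y, ((φ y : ↥(FixG r e D uni)) : Matrix.SpecialLinearGroup (Fin 3) k) = cj b y.1 := fun _ => rfl
  have hb3 : ∀ y, cj b (cj b (cj b y)) = y := by
    intro y
    refine eq_of_psi hn hψ (f := (cj b).toMonoidHom.comp ((cj b).toMonoidHom.comp (cj b).toMonoidHom))
      (g := MonoidHom.id _) (fun z => ?_) y
    show ψ (cj b (cj b (cj b z))) = ψ z
    rw [← hd, ← hd, ← hd]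
    have h1 : f * (f * (f * ψ z * f⁻¹) * f⁻¹) * f⁻¹ = f ^ 3 * ψ z * (f ^ 3)⁻¹ := by
      rw [pow_succ, pow_two]; group
    rw [h1, hEp f hf, one_mul, inv_one, mul_one]
  have hφ3 : ∀ y, φ (φ (φ y)) = y := fun y => Subtype.ext (hb3 y.1)
  have hQ := quasi_fix (r := r) hn he h32 D uni
  have hφ : ∃ y, y⁻¹ * φ y ∉ Subgroup.center ↥(FixG r e D uni) := by
    by_contra hno
    push Not at hno
    have h1 : ∀ y, φ y = y := hom_eq_of_center hQ.perf (f := φ) (g := MonoidHom.id _) fun y => by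
      show φ y * y⁻¹ ∈ _
      have h2 := hno y
      have h3 := Subgroup.mem_center_iff.1 h2 y
      have h4 : φ y * y⁻¹ = y⁻¹ * φ y := by
        calc φ y * y⁻¹ = y * (y⁻¹ * φ y) * y⁻¹ := by group
          _ = _ := by rw [h3, mul_inv_cancel_right]
      rw [h4]; exact h2
    have h2 : b ∈ scalars (Fin 3) k := by
      refine comm_fix (D := D) (uni := uni) hn he h32 fun y hy => ?_
      have h3 := congrArg Subtype.val (h1 ⟨y, hy⟩)
      rw [hφv] at h3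
      have h4 := congrArg toGL h3
      rw [toGL_cj] at h4
      exact mul_inv_eq_iff_eq_mul.1 h4
    obtain ⟨z, hz⟩ := mem_scalars_iff_sc.1 h2
    refine ShAct.absurd hn r hinj (x := f) (ShAct.of_comm fun y => ?_) hfs
    have h3 : cj b y = y := by
      apply toGL_inj'
      rw [toGL_cj, hz, sc_comm, mul_inv_cancel_right]
    have h4 := hd y
    rw [h3] at h4
    exact (mul_inv_eq_iff_eq_mul.1 h4).symm
  -- the three copies
  have hg3 := hEp g hg
  refine (triple hQ (j₀ := ψ.comp (FixG r e D uni).subtype)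
    (j₁ := ((MulAut.conj g).toMonoidHom.comp ψ).comp (FixG r e D uni).subtype)
    (j₂ := ((MulAut.conj (g ^ 2)).toMonoidHom.comp ψ).comp (FixG r e D uni).subtype)
    (fun y z => hc y.1 z.1) (fun y z => comm02 hg3 hc y.1 z.1) (fun y z => comm12 hc y.1 z.1) hφ3 hφ
    (fun y => k1 y.1 y.2) (fun y => ?_) ⟨x, hx⟩).1
  have h1 := k2 y.1 y.2
  rw [Dg_apply] at h1
  have h2 : g * f * ψ y.1 * (g * f)⁻¹ = g * ψ (cj b y.1) * g⁻¹ := by
    rw [← hd]; group
  have h4 : (g * f) ^ 2 = g ^ 2 * (f * f) := by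
    have h5 : Commute g f := hEc g hg f hf
    rw [h5.mul_pow, pow_two f]
  have h3 : (g * f) ^ 2 * ψ y.1 * ((g * f) ^ 2)⁻¹ = g ^ 2 * ψ (cj b (cj b y.1)) * (g ^ 2)⁻¹ := by
    rw [← hd, ← hd, h4]; group
  rw [h2, h3] at h1
  exact h1

/-- **Three commuting frames permuted by `E`: `r`-elements.** -/
theorem nine_mem (L : LinFacts.{u} 3) (U : UniFacts.{u} 3) (hr : r ≠ 2) (hpr : 3 ≠ r) (he : 0 < e)
    (hEp : ∀ a ∈ E, a ^ 3 = 1) (hEc : ∀ a ∈ E, ∀ b ∈ E, a * b = b * a)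
    (hinj : ∀ (i j : Fin 3) (hij : i ≠ j), Function.Injective fun t : k => ψ (transvection hij t))
    {σ : Y →* Y} (hEσ : ∀ x ∈ E, σ x = x) {D : GL (Fin 3) k} {uni : Bool}
    (hσ : ∀ g, σ (ψ g) = ψ (stm r e D uni g)) {f g : Y} (hf : f ∈ E) (hfs : ShAct ψ 1 f) (hg : g ∈ E)
    (hc : ∀ x y, Commute (ψ x) (g * ψ y * g⁻¹))
    (hE : ∀ x ∈ E, ∃ (i : ℕ) (m : Fin 3), ShAct ψ m (x * (g ^ i)⁻¹)) {H : Subgroup Y}
    (hH : ∀ F ≤ E, F.relIndex E = 3 → ∀ u ∈ Subgroup.closure {u : Y | σ u = u ∧ ∃ j : ℕ, u ^ r ^ j = 1},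
      (∀ x ∈ F, x * u = u * x) → u ∈ H)
    {u : Y} (hu : u ∈ ψ.range) (hσu : σ u = u) (hur : ∃ j : ℕ, u ^ r ^ j = 1) : u ∈ H := by
  obtain ⟨g', rfl⟩ := hu
  obtain ⟨j, hj⟩ := hur
  obtain ⟨x, hx, hxg⟩ := exists_fixed (p := 3) le_rfl hpr (exists_ne_one le_rfl hinj) hσ hσu hj
  rw [← hxg]
  exact nine_fix L U hr he hEp hEc hinj hEσ hσ hf hfs hg hc hE hH hx

end Nine

end Cfsg.Agent.H321.Mono
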