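import Cfsg.Agent.H321.Mono.Cyc
import Cfsg.Agent.H321.Ker.Facts
import Cfsg.Agent.H496.Mono.Stmt
import Cfsg.Agent.H46.Gen.PairW
import Cfsg.Agent.H508.Dens.Main

/-!
# S2187, X4: orbits of type `A_{p-1}` (M5A)

* `conj_form` : representatives on root elements;
* `fm_inj`, `fm_act`, `fm_sigma` : the homomorphism of a frame;
* `inS_of_afr` : a frame of type `A_{p-1}` shifted by `E`, `p` odd;
* `inS_A` : `p = 3`, any root.
-/

set_option autoImplicit false
set_option linter.unusedSectionVars false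

namespace Cfsg.Agent.H321.Mono

open CoxeterSystem Cfsg Cfsg.Lie Cfsg.Lie.ChevalleyDatum
open Cfsg.Agent.ChevalleyStructure Cfsg.Agent.ChevalleyStructure.Elts Cfsg.Agent.ChevalleyStructure.CoxeterGeom
  Cfsg.Agent.ChevalleyStructure.CoxeterGeomTypes Cfsg.Agent.ChevalleyStructure.NPerm
open Cfsg.Agent.Tits.Roots Cfsg.Agent.Tits.Core Cfsg.Agent.Nodes Cfsg.Agent.Nodes.Reps Cfsg.Agent.Nodes.BNOf
  Cfsg.Agent.Nodes.SubComb Cfsg.Agent.Nodes.RGDChev Cfsg.Agent.Nodes.Bruhat Cfsg.Agent.Nodes.Coroot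
open Cfsg.Agent.KFacts.RgdField Cfsg.Agent.KFacts.RgdChevCoord
open Cfsg.Agent.BpExc Cfsg.Agent.BpExc.TorCent Cfsg.Agent.BpExc.TorChev Cfsg.Agent.BpExc.Tow
  Cfsg.Agent.BpExc.TowChev Cfsg.Agent.BpExc.Fr Cfsg.Agent.BpExc.LangFr
open Cfsg.Agent.H469.Exc Cfsg.Agent.H316.U6 Cfsg.Agent.H818.Gen Cfsg.Agent.H818.Mono Cfsg.Agent.H696.GmnToral
open Cfsg.Agent.H225.Gen (LL LL_rep LL_root LL_neg)
open Cfsg.Agent.H496.Mono
open Cfsg.Agent.H818.StrP.UTab
open Cfsg.Agent.H46.Gen (AFr Rt xf sgn sgn_ne_zero xf_inj exists_hom_afr rt_iff afr_of_three)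
open Cfsg.Agent.H508.Dens (frob_form)
open Cfsg.Agent.H321.Ker
open scoped MatrixGroups
open Matrix.SpecialLinearGroup (transvection)

variable {D : ChevalleyDatum} {l : ℕ} {M : CoxeterMatrix (Fin l)} {hp : IsType D l M} {r : ℕ} [Fact r.Prime]

/-- representatives on root elements -/
theorem conj_form {w : M.Group} {y : ↥(D.group (KK r))} (h : NR hp r w y) {a : Fin l → ℤ}
    (ha : IsRoot M.toCoxeterSystem hp.isCartan a) : ∃ u : KK r, u ≠ 0 ∧ ∀ c : KK r,
      y * xc hp a c * y⁻¹ = xc hp (rep M.toCoxeterSystem hp.isCartan w a) (u * c) := by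
  obtain ⟨u, hu, h1⟩ := frob_form (r := r) (e := 0) hp M.toCoxeterSystem (IsFrob.conj y) (nr_frame h) ha
  refine ⟨u, hu, fun c => ?_⟩
  have h2 := h1 c
  rw [pow_zero, pow_one] at h2
  exact h2

section Frame

variable {n : ℕ} {ev : Fin (n + 1) → Fin l → ℤ} (hev : AFr D l ev)
  {ψ : Matrix.SpecialLinearGroup (Fin (n + 1)) (KK r) →* ↥(D.group (KK r))}
  (hψ : ∀ i j (hij : i ≠ j) a, ψ (transvection hij a) = xf hp ev i j a)

include hev

theorem fm_root {i j : Fin (n + 1)} (hij : i ≠ j) : IsRoot M.toCoxeterSystem hp.isCartan (ev i - ev j) :=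
  (rt_iff hp M.toCoxeterSystem).1 (hev.rt i j hij)

include hψ

theorem fm_inj (i j : Fin (n + 1)) (hij : i ≠ j) :
    Function.Injective fun t : KK r => ψ (transvection hij t) := by
  intro s t hst
  have h1 : ψ (transvection hij s) = ψ (transvection hij t) := hst
  rw [hψ, hψ] at h1
  exact xf_inj hp hev hij h1

/-- the action of a representative -/
theorem fm_act {w : M.Group} {y : ↥(D.group (KK r))} (h : NR hp r w y) {m : Fin (n + 1)}
    (hw : ∀ i j, i ≠ j → rep M.toCoxeterSystem hp.isCartan w (ev i - ev j) = ev (i + m) - ev (j + m)) :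
    ShAct ψ m y := by
  have h1 : ∀ i j : Fin (n + 1), ∃ c : KK r, i ≠ j → c ≠ 0 ∧ ∀ t : KK r,
      y * ψ (if hij : i ≠ j then transvection hij t else 1) * y⁻¹ =
        ψ (if hij : i ≠ j then transvection (add_left_injective m |>.ne hij) (c * t) else 1) := by
    intro i j
    by_cases hij : i = j
    · exact ⟨1, fun h => absurd hij h⟩
    · obtain ⟨u, hu, h2⟩ := conj_form h (fm_root (hp := hp) hev hij)
      have hij' : i + m ≠ j + m := add_left_injective m |>.ne hij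
      refine ⟨(sgn D l ev (i + m) (j + m) : KK r)⁻¹ * u * (sgn D l ev i j : KK r), fun _ => ⟨?_, fun t => ?_⟩⟩
      · exact mul_ne_zero (mul_ne_zero (inv_ne_zero (sgn_ne_zero hp hev hij')) hu) (sgn_ne_zero hp hev hij)
      · rw [dif_pos hij, dif_pos hij, hψ, hψ]
        unfold xf
        rw [h2, hw i j hij]
        congr 1
        rw [mul_assoc, mul_assoc, mul_inv_cancel_left₀ (sgn_ne_zero hp hev hij')]
  choose c hc using h1
  refine ShAct.of_forall (c := c) (fun i j hij => (hc i j hij).1) fun i j hij t => ?_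
  have h2 := (hc i j hij).2 t
  rwa [dif_pos hij, dif_pos hij] at h2

theorem fm_sigma {e : ℕ} {τ : MulAut ↥(D.group (KK r))} {γ : (Fin l → ℤ) ≃+ (Fin l → ℤ)} (hτ : IsFrob r e τ)
    (F : Fr M.toCoxeterSystem hp.isCartan (TT D (KK r)) (XX D l (KK r)) τ γ) (hn : 2 ≤ n) {π : Equiv.Perm (Fin (n + 1))}
    (hγ : (∀ i j, i ≠ j → γ (ev i - ev j) = ev (π i) - ev (π j)) ∨
      (∀ i j, i ≠ j → γ (ev i - ev j) = ev (π j) - ev (π i))) :
    ∃ (Dm : GL (Fin (n + 1)) (KK r)) (uni : Bool), ∀ g, τ (ψ g) = ψ (stm r e Dm uni g) := by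
  have hn3 : 3 ≤ n + 1 := by omega
  have hinj := fm_inj hev hψ
  have hF : ∀ i j : Fin (n + 1), ∃ u : KK r, i ≠ j → u ≠ 0 ∧
      ∀ c : KK r, τ (xc hp (ev i - ev j) c) = xc hp (γ (ev i - ev j)) (u * c ^ r ^ e) := by
    intro i j
    by_cases hij : i = j
    · exact ⟨1, fun h => absurd hij h⟩
    · obtain ⟨u, hu, h2⟩ := frob_form hp M.toCoxeterSystem hτ F (fm_root (hp := hp) hev hij)
      exact ⟨u, fun _ => ⟨hu, h2⟩⟩
  choose u hu using hF
  rcases hγ with hγ | hγ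
  · have h1 : ∀ (i j : Fin (n + 1)) (hij : i ≠ j) (t : KK r), τ.toMonoidHom (ψ (transvection hij t)) =
        ψ (transvection (π.injective.ne hij)
          ((sgn D l ev (π i) (π j) : KK r)⁻¹ * u i j * (sgn D l ev i j : KK r) ^ r ^ e * t ^ r ^ e)) := by
      intro i j hij t
      rw [hψ, hψ]
      unfold xf
      show τ _ = _
      rw [(hu i j hij).2, hγ i j hij]
      congr 1
      have hs := sgn_ne_zero (k := KK r) hp hev (π.injective.ne hij)
      rw [mul_assoc, mul_assoc, mul_inv_cancel_left₀ hs, mul_pow]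
    obtain ⟨d, -, hd⟩ := exists_lin (r := r) (e := e) (φ := τ.toMonoidHom) (π := π)
      (c := fun i j => (sgn D l ev (π i) (π j) : KK r)⁻¹ * u i j * (sgn D l ev i j : KK r) ^ r ^ e) hn3 hinj
      (fun i j hij => mul_ne_zero (mul_ne_zero (inv_ne_zero (sgn_ne_zero hp hev (π.injective.ne hij))) (hu i j hij).1)
        (pow_ne_zero _ (sgn_ne_zero hp hev hij))) h1
    exact ⟨_, _, hd⟩
  · have h1 : ∀ (i j : Fin (n + 1)) (hij : i ≠ j) (t : KK r), τ.toMonoidHom (ψ (transvection hij t)) =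
        ψ (transvection (π.injective.ne hij.symm)
          ((sgn D l ev (π j) (π i) : KK r)⁻¹ * u i j * (sgn D l ev i j : KK r) ^ r ^ e * t ^ r ^ e)) := by
      intro i j hij t
      rw [hψ, hψ]
      unfold xf
      show τ _ = _
      rw [(hu i j hij).2, hγ i j hij]
      congr 1
      have hs := sgn_ne_zero (k := KK r) hp hev (π.injective.ne hij.symm)
      rw [mul_assoc, mul_assoc, mul_inv_cancel_left₀ hs, mul_pow]
    obtain ⟨d, -, hd⟩ := exists_uni (r := r) (e := e) (φ := τ.toMonoidHom) (π := π)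
      (c := fun i j => (sgn D l ev (π j) (π i) : KK r)⁻¹ * u i j * (sgn D l ev i j : KK r) ^ r ^ e) hn3 hinj
      (fun i j hij => mul_ne_zero (mul_ne_zero (inv_ne_zero (sgn_ne_zero hp hev (π.injective.ne hij.symm)))
        (hu i j hij).1) (pow_ne_zero _ (sgn_ne_zero hp hev hij))) h1
    exact ⟨_, _, hd⟩

/-- the root groups of the frame -/
theorem fm_Sup : RGD.Sup (XX D l (KK r)) {v | ∃ i j, i ≠ j ∧ v = ev i - ev j} ≤ ψ.range := by
  refine RGD.Sup_le ?_
  rintro _ ⟨i, j, hij, rfl⟩ u hu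
  obtain ⟨c, rfl⟩ := (Cfsg.Agent.H508.Dens.mem_XX_iff hp M.toCoxeterSystem (fm_root (hp := hp) hev hij)).1 hu
  refine ⟨transvection hij ((sgn D l ev i j : KK r)⁻¹ * c), ?_⟩
  rw [hψ]
  unfold xf
  rw [mul_inv_cancel_left₀ (sgn_ne_zero hp hev hij)]

end Frame

section Orb

variable {n e : ℕ} [hn1 : Fact (n + 1).Prime] {τ : MulAut ↥(D.group (KK r))} {γ : (Fin l → ℤ) ≃+ (Fin l → ℤ)}
  {E H : Subgroup ↥(D.group (KK r))}

theorem InS.mono {τ : MulAut ↥(D.group (KK r))} {H : Subgroup ↥(D.group (KK r))} {S S' : Set (Fin l → ℤ)}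
    (h : InS r l τ H S') (hS : S ⊆ S') : InS r l τ H S := fun u hu => h u (RGD.Sup_mono hS hu)

/-- **M5A: frames of type `A_{p-1}` shifted by `E`.** -/
theorem inS_of_afr (S : Sit hp r (n + 1) e τ γ E H) (h2 : n + 1 ≠ 2) (hr : r ≠ 2) (hpr : n + 1 ≠ r)
    {ev : Fin (n + 1) → Fin l → ℤ} (hev : AFr D l ev) {π : Equiv.Perm (Fin (n + 1))}
    (hγ : (∀ i j, i ≠ j → γ (ev i - ev j) = ev (π i) - ev (π j)) ∨
      (∀ i j, i ≠ j → γ (ev i - ev j) = ev (π j) - ev (π i)))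
    {w : M.Group} (hw : w ∈ VE hp r E)
    (hws : ∀ i j, i ≠ j → rep M.toCoxeterSystem hp.isCartan w (ev i - ev j) = ev (i + 1) - ev (j + 1))
    (hV : ∀ v ∈ VE hp r E, ∃ m : Fin (n + 1), ∀ i j, i ≠ j →
      rep M.toCoxeterSystem hp.isCartan v (ev i - ev j) = ev (i + m) - ev (j + m)) :
    InS r l τ H {v | ∃ i j, i ≠ j ∧ v = ev i - ev j} := by
  have hn2 : 2 ≤ n := by have := hn1.1.two_le; omega
  obtain ⟨ψ, hψ, -⟩ := exists_hom_afr (k := KK r) hp hev hn2 (locFin r)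
  obtain ⟨Dm, uni, hσ⟩ := fm_sigma hev hψ S.frob S.fr hn2 hγ
  obtain ⟨f, hf, hfw⟩ := hw
  intro u hu hτu hur
  exact cyc_mem (σ := τ.toMonoidHom) h2 (linFacts hn1.1 h2) (uniFacts hn1.1 h2) (Or.inr hr) S.he hpr
    (fun a ha => S.el.2 a ha) (fun a ha b hb => comm_E S ha hb) (fm_inj hev hψ) (fun x hx => S.fix x hx) hσ hf
    (fm_act hev hψ hfw hws) (fun x hx => by
      obtain ⟨v, hv⟩ := S.nrm x hx
      obtain ⟨m, hm⟩ := hV v ⟨x, hx, hv⟩
      exact ⟨m, fm_act hev hψ hv hm⟩) (fun F hF hFi u hu hux => S.cent F hF hFi u hu hux) (fm_Sup hev hψ hu) hτu hur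

end Orb

section Three

variable {e : ℕ} {τ : MulAut ↥(D.group (KK r))} {γ : (Fin l → ℤ) ≃+ (Fin l → ℤ)} {E H : Subgroup ↥(D.group (KK r))}

/-- the frame of a triple -/
def ev3 (a b : Fin l → ℤ) : Fin 3 → Fin l → ℤ := ![a, 0, -b]

theorem ev3_01 (a b : Fin l → ℤ) : ev3 a b 0 - ev3 a b 1 = a := by
  show a - 0 = a
  rw [sub_zero]

theorem ev3_12 (a b : Fin l → ℤ) : ev3 a b 1 - ev3 a b 2 = b := by
  show (0 : Fin l → ℤ) - -b = b
  rw [zero_sub, neg_neg]

theorem ev3_20 (a b c : Fin l → ℤ) (h : a + b + c = 0) : ev3 a b 2 - ev3 a b 0 = c := by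
  show -b - a = c
  have : c = -(a + b) := by rw [eq_neg_iff_add_eq_zero, ← h]; abel
  rw [this]; abel

/-- shifts of the frame -/
theorem shift3 {V : Subgroup M.Group} (hV : ∀ v ∈ V, ∀ w ∈ V, v * w = w * v) {f : M.Group} (hf : f ∈ V)
    {a : Fin l → ℤ}
    (h3 : a + rep M.toCoxeterSystem hp.isCartan f a + rep M.toCoxeterSystem hp.isCartan (f ^ 2) a = 0)
    (hf3 : f ^ 3 = 1) {v : M.Group} (hv : v ∈ V) {j : ℕ}
    (hj : rep M.toCoxeterSystem hp.isCartan v a = rep M.toCoxeterSystem hp.isCartan (f ^ j) a) :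
    ∃ m : Fin 3, ∀ i j, i ≠ j → rep M.toCoxeterSystem hp.isCartan v
        (ev3 a (rep M.toCoxeterSystem hp.isCartan f a) i - ev3 a (rep M.toCoxeterSystem hp.isCartan f a) j) =
      ev3 a (rep M.toCoxeterSystem hp.isCartan f a) (i + m) - ev3 a (rep M.toCoxeterSystem hp.isCartan f a) (j + m) := by
  set cs := M.toCoxeterSystem with hcs
  set b := rep cs hp.isCartan f a with hb
  set c := rep cs hp.isCartan (f ^ 2) a with hc
  have hfb : rep cs hp.isCartan f b = c := by rw [hb, hc, pow_two, map_mul, Module.End.mul_apply]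
  have hfc : rep cs hp.isCartan f c = a := by
    rw [hc, ← Module.End.mul_apply, ← map_mul, ← pow_succ', hf3, map_one, Module.End.one_apply]
  have e01 := ev3_01 a b
  have e12 := ev3_12 a b
  have e20 := ev3_20 a b c h3
  have e10 : ev3 a b 1 - ev3 a b 0 = -a := by rw [← neg_sub, e01]
  have e21 : ev3 a b 2 - ev3 a b 1 = -b := by rw [← neg_sub, e12]
  have e02 : ev3 a b 0 - ev3 a b 2 = -c := by rw [← neg_sub, e20]
  -- it is enough to look at `a, b, c`
  have key : ∀ (m : Fin 3), rep cs hp.isCartan v a = ev3 a b (0 + m) - ev3 a b (1 + m) →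
      rep cs hp.isCartan v b = ev3 a b (1 + m) - ev3 a b (2 + m) →
      rep cs hp.isCartan v c = ev3 a b (2 + m) - ev3 a b (0 + m) → ∀ i j, i ≠ j →
      rep cs hp.isCartan v (ev3 a b i - ev3 a b j) = ev3 a b (i + m) - ev3 a b (j + m) := by
    intro m h1 h2 h4 i j hij
    have hcases : ∀ i j : Fin 3, i ≠ j → (i = 0 ∧ j = 1) ∨ (i = 1 ∧ j = 2) ∨ (i = 2 ∧ j = 0) ∨ (i = 1 ∧ j = 0) ∨
        (i = 2 ∧ j = 1) ∨ (i = 0 ∧ j = 2) := by decide
    rcases hcases i j hij with ⟨rfl, rfl⟩ | ⟨rfl, rfl⟩ | ⟨rfl, rfl⟩ | ⟨rfl, rfl⟩ | ⟨rfl, rfl⟩ | ⟨rfl, rfl⟩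
    · rw [e01, h1]
    · rw [e12, h2]
    · rw [e20, h4]
    · rw [e10, map_neg, h1, neg_sub]
    · rw [e21, map_neg, h2, neg_sub]
    · rw [e02, map_neg, h4, neg_sub]
  have hvb : rep cs hp.isCartan v b = rep cs hp.isCartan f (rep cs hp.isCartan v a) := by
    rw [hb, ← Module.End.mul_apply, ← map_mul, hV v hv f hf, map_mul, Module.End.mul_apply]
  have hvc : rep cs hp.isCartan v c = rep cs hp.isCartan f (rep cs hp.isCartan v b) := by
    rw [← hfb, ← Module.End.mul_apply, ← map_mul, hV v hv f hf, map_mul, Module.End.mul_apply]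
  have hjm : rep cs hp.isCartan (f ^ j) a = rep cs hp.isCartan (f ^ (j % 3)) a := by
    conv_lhs => rw [← Nat.mod_add_div j 3, pow_add, pow_mul, hf3, one_pow, mul_one]
  have hj3 : j % 3 < 3 := Nat.mod_lt _ (by norm_num)
  rw [hjm] at hj
  interval_cases (j % 3)
  · rw [pow_zero, map_one, Module.End.one_apply] at hj
    rw [hj] at hvb
    rw [hvb] at hvc
    refine ⟨0, key 0 ?_ ?_ ?_⟩
    · rw [hj]; exact e01.symm
    · rw [hvb]; exact e12.symm
    · rw [hvc, ← hb, hfb]; exact e20.symm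
  · rw [pow_one, ← hb] at hj
    rw [hj, hfb] at hvb
    rw [hvb, hfc] at hvc
    refine ⟨1, key 1 ?_ ?_ ?_⟩
    · rw [hj]; exact e12.symm
    · rw [hvb]; exact e20.symm
    · rw [hvc]; exact e01.symm
  · rw [← hc] at hj
    rw [hj, hfc] at hvb
    rw [hvb, ← hb] at hvc
    refine ⟨2, key 2 ?_ ?_ ?_⟩
    · rw [hj]; exact e20.symm
    · rw [hvb]; exact e01.symm
    · rw [hvc]; exact e12.symm

/-- **M5A, `p = 3`, any root** (`D` not of type `G₂`) -/
theorem inS_A (S : Sit hp r 3 e τ γ E H) (hG : D ≠ chevG2) (hr : r ≠ 2) (hpr : 3 ≠ r) {a : Fin l → ℤ}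
    (ha : IsRoot M.toCoxeterSystem hp.isCartan a) {ε : ℤ} (hε : ε = 1 ∨ ε = -1) (hγ : γ a = ε • a)
    (hO : OrbA hp (VE hp r E) a) :
    ∃ f ∈ VE hp r E, InS r l τ H {a, -a, rep M.toCoxeterSystem hp.isCartan f a,
      -rep M.toCoxeterSystem hp.isCartan f a, rep M.toCoxeterSystem hp.isCartan (f ^ 2) a,
      -rep M.toCoxeterSystem hp.isCartan (f ^ 2) a} := by
  have := finite_W hp M.toCoxeterSystem
  obtain ⟨f, hf, h3, hO⟩ := hO
  refine ⟨f, hf, ?_⟩
  set cs := M.toCoxeterSystem with hcs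
  have hf3 : f ^ 3 = 1 := VE_pow S hf
  have hsh := fun (v : M.Group) (hv : v ∈ VE hp r E) (j : ℕ) hj =>
    shift3 (hp := hp) (fun v hv w hw => VE_comm S hv hw) hf h3 hf3 (v := v) hv (j := j) hj
  set b := rep cs hp.isCartan f a with hb
  set c := rep cs hp.isCartan (f ^ 2) a with hc
  have hfb : rep cs hp.isCartan f b = c := by rw [hb, hc, pow_two, map_mul, Module.End.mul_apply]
  have e01 := ev3_01 a b
  have e12 := ev3_12 a b
  have e20 := ev3_20 a b c h3
  have e10 : ev3 a b 1 - ev3 a b 0 = -a := by rw [← neg_sub, e01]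
  have e21 : ev3 a b 2 - ev3 a b 1 = -b := by rw [← neg_sub, e12]
  have e02 : ev3 a b 0 - ev3 a b 2 = -c := by rw [← neg_sub, e20]
  have hcases : ∀ i j : Fin 3, i ≠ j → (i = 0 ∧ j = 1) ∨ (i = 1 ∧ j = 2) ∨ (i = 2 ∧ j = 0) ∨ (i = 1 ∧ j = 0) ∨
    (i = 2 ∧ j = 1) ∨ (i = 0 ∧ j = 2) := by decide
  have hev : AFr D l (ev3 a b) := afr_of_three hp cs hG ha (w := f)
    (by rw [← hb, hfb, h3]) e01 (by rw [e12, hb])
  have hγb : γ b = ε • b := by rw [hb, VE_gam S hf ha, hγ, map_zsmul]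
  have hγc : γ c = ε • c := by rw [hc, VE_gam S (pow_mem hf 2) ha, hγ, map_zsmul]
  have hF3 : Fact (2 + 1).Prime := ⟨Nat.prime_three⟩
  have h1 : ∀ i j, i ≠ j → γ (ev3 a b i - ev3 a b j) = ε • (ev3 a b i - ev3 a b j) := by
    intro i j hij
    rcases hcases i j hij with ⟨rfl, rfl⟩ | ⟨rfl, rfl⟩ | ⟨rfl, rfl⟩ | ⟨rfl, rfl⟩ | ⟨rfl, rfl⟩ | ⟨rfl, rfl⟩
    · rw [e01, hγ]
    · rw [e12, hγb]
    · rw [e20, hγc]
    · rw [e10, map_neg, hγ, smul_neg]
    · rw [e21, map_neg, hγb, smul_neg]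
    · rw [e02, map_neg, hγc, smul_neg]
  refine InS.mono (inS_of_afr (n := 2) S (by norm_num) hr hpr hev (π := Equiv.refl _) ?_ hf ?_ ?_) ?_
  · rcases hε with rfl | rfl
    · left
      intro i j hij
      rw [h1 i j hij, one_smul]
      rfl
    · right
      intro i j hij
      rw [h1 i j hij, neg_one_smul, neg_sub]
      rfl
  · intro i j hij
    obtain ⟨m, hm⟩ := hsh f hf 1 (by rw [pow_one])
    have h4 := hm 0 1 (by decide)
    rw [e01, ← hb] at h4
    have hm1 : m = 1 := by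
      have hb0 : b ≠ 0 := (ha.act f).ne_zero
      have ha0 : a ≠ 0 := ha.ne_zero
      have hc0 : c ≠ 0 := (ha.act (f ^ 2)).ne_zero
      have hm3 : m = 0 ∨ m = 1 ∨ m = 2 := (by decide : ∀ m : Fin 3, m = 0 ∨ m = 1 ∨ m = 2) m
      rcases hm3 with rfl | rfl | rfl
      · exfalso
        have h5 : b = a := h4.trans e01
        have h6 : c = a := by rw [← hfb, h5, ← hb, h5]
        rw [h5, h6] at h3
        apply ha0
        have h7 : (3 : ℤ) • a = 0 := by rw [← h3]; module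
        rcases smul_eq_zero.1 h7 with h8 | h8
        · norm_num at h8
        · exact h8
      · rfl
      · exfalso
        have h5 : b = c := h4.trans e20
        have h6 : rep cs hp.isCartan f a = rep cs hp.isCartan f b := by rw [hfb, ← hb, h5]
        have h8 : a = b := by
          have h9 := congrArg (rep cs hp.isCartan f⁻¹) h6
          rwa [← Module.End.mul_apply, ← Module.End.mul_apply, ← map_mul, inv_mul_cancel, map_one,
            Module.End.one_apply, Module.End.one_apply] at h9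
        rw [← h8] at h5
        rw [← h8, ← h5] at h3
        apply ha0
        have h7 : (3 : ℤ) • a = 0 := by rw [← h3]; module
        rcases smul_eq_zero.1 h7 with h8 | h8
        · norm_num at h8
        · exact h8
    subst hm1
    exact hm i j hij
  · intro v hv
    obtain ⟨j, hj⟩ := hO v hv
    exact hsh v hv j hj
  · rintro x (rfl | rfl | rfl | rfl | rfl | rfl)
    · exact ⟨0, 1, by decide, e01.symm⟩
    · exact ⟨1, 0, by decide, e10.symm⟩
    · exact ⟨1, 2, by decide, e12.symm⟩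
    · exact ⟨2, 1, by decide, e21.symm⟩
    · exact ⟨2, 0, by decide, e20.symm⟩
    · exact ⟨0, 2, by decide, e02.symm⟩

end Three

end Cfsg.Agent.H321.Mono
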