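import Cfsg.Agent.H321.Mono.OrbA

/-!
# S2187, X4: frames shifted by `E`, general form

* `mem_closure_rr` : fixed points of `stm` are products of `r`-elements of `ψ (SL_n(k))` fixed by `σ`;
* `core_afr` : as `inS_of_afr`, for any subgroup `N` of `Y`;
* `core` : `p = 3`, any root (form of helper82);
* `p5_orbA` : `P5 hp r 3 (OrbA hp)`.
-/

set_option autoImplicit false
set_option linter.unusedSectionVars false

namespace Cfsg.Agent.H321.Mono

open CoxeterSystem Cfsg Cfsg.Lie Cfsg.Lie.ChevalleyDatum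
open Cfsg.Agent.ChevalleyStructure Cfsg.Agent.ChevalleyStructure.Elts Cfsg.Agent.ChevalleyStructure.CoxeterGeom
  Cfsg.Agent.ChevalleyStructure.CoxeterGeomTypes Cfsg.Agent.ChevalleyStructure.NPerm
open Cfsg.Agent.Tits.Roots Cfsg.Agent.Tits.Core Cfsg.Agent.Nodes Cfsg.Agent.Nodes.Reps Cfsg.Agent.Nodes.BNOf
  Cfsg.Agent.Nodes.SubComb Cfsg.Agent.Nodes.RGDChev Cfsg.Agent.Nodes.Bruhat Cfsg.Agent.Nodes.Coroot
open Cfsg.Agent.KFacts.RgdField Cfsg.Agent.KFacts.RgdChevCoord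
open Cfsg.Agent.BpExc Cfsg.Agent.BpExc.TorCent Cfsg.Agent.BpExc.TorChev Cfsg.Agent.BpExc.Tow
  Cfsg.Agent.BpExc.TowChev Cfsg.Agent.BpExc.Fr Cfsg.Agent.BpExc.LangFr
open Cfsg.Agent.H469.Exc Cfsg.Agent.H316.U6 Cfsg.Agent.H818.Gen Cfsg.Agent.H818.Mono Cfsg.Agent.H696.GmnToral
open Cfsg.Agent.H225.Gen (LL LL_rep LL_root LL_neg)
open Cfsg.Agent.H496.Mono
open Cfsg.Agent.H818.StrP.UTab
open Cfsg.Agent.H46.Gen (AFr Rt xf sgn sgn_ne_zero xf_inj exists_hom_afr rt_iff afr_of_three)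
open Cfsg.Agent.H321.Ker
open scoped MatrixGroups
open Matrix.SpecialLinearGroup (transvection)

/-- fixed points of `stm` are products of `r`-elements fixed by `σ` -/
theorem mem_closure_rr {n : ℕ} [NeZero n] {k : Type*} [Field k] [IsAlgClosed k] {r e : ℕ} [Fact r.Prime] [CharP k r]
    {Y : Type*} [Group Y] {ψ : Matrix.SpecialLinearGroup (Fin n) k →* Y} (hn : 3 ≤ n)
    (h32 : ¬ (n = 3 ∧ r ^ e = 2)) (he : 0 < e) {P : Subgroup Y} (hP : ψ.range ≤ P)
    {σ : Y →* Y} {D : GL (Fin n) k} {uni : Bool}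
    (hσ : ∀ g, σ (ψ g) = ψ (stm r e D uni g)) {g : Matrix.SpecialLinearGroup (Fin n) k} (hg : stm r e D uni g = g) :
    ψ g ∈ Subgroup.closure {u : Y | u ∈ P ∧ σ u = u ∧ ∃ j : ℕ, u ^ r ^ j = 1} := by
  have h1 := fix_gen hn he h32 hg
  have h3 : Subgroup.closure {h : Matrix.SpecialLinearGroup (Fin n) k | stm r e D uni h = h ∧ h ^ r = 1} ≤
      (Subgroup.closure {u : Y | u ∈ P ∧ σ u = u ∧ ∃ j : ℕ, u ^ r ^ j = 1}).comap ψ := by
    rw [Subgroup.closure_le]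
    rintro y ⟨hy, hyr⟩
    exact Subgroup.subset_closure ⟨hP ⟨y, rfl⟩, by rw [hσ, hy], 1, by rw [pow_one, ← map_pow, hyr, map_one]⟩
  exact h3 h1

variable {D : ChevalleyDatum} {l : ℕ} {M : CoxeterMatrix (Fin l)} {hp : IsType D l M} {r : ℕ} [Fact r.Prime]

/-- the homomorphism of a frame maps into the group generated by the root groups -/
theorem fm_range {n : ℕ} {ev : Fin (n + 1) → Fin l → ℤ} (hev : AFr D l ev)
    {ψ : Matrix.SpecialLinearGroup (Fin (n + 1)) (KK r) →* ↥(D.group (KK r))}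
    (hψ : ∀ i j (hij : i ≠ j) a, ψ (transvection hij a) = xf hp ev i j a) (hn : 1 ≤ n) :
    ψ.range ≤ RGD.Sup (XX D l (KK r)) {v | ∃ i j, i ≠ j ∧ v = ev i - ev j} := by
  have : Nontrivial (Fin (n + 1)) := Fin.nontrivial_iff_two_le.2 (by omega)
  rintro _ ⟨g, rfl⟩
  refine Cfsg.Agent.LieClassical.SLGen.transvection_induction
    (fun g => ψ g ∈ RGD.Sup (XX D l (KK r)) {v | ∃ i j, i ≠ j ∧ v = ev i - ev j}) (fun i j hij t => ?_)
    (fun a b ha hb => by rw [map_mul]; exact mul_mem ha hb) g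
  rw [hψ]
  refine RGD.le_Sup (X := XX D l (KK r)) (S := {v | ∃ i j, i ≠ j ∧ v = ev i - ev j}) ⟨i, j, hij, rfl⟩ ?_
  exact (Cfsg.Agent.H508.Dens.mem_XX_iff hp M.toCoxeterSystem (fm_root (hp := hp) hev hij)).2 ⟨_, rfl⟩

/-- **Frames of type `A_{p-1}` shifted by `E`, general form.** -/
theorem core_afr {n e : ℕ} [hn1 : Fact (n + 1).Prime] {τ : MulAut ↥(D.group (KK r))}
    {γ : (Fin l → ℤ) ≃+ (Fin l → ℤ)} {E H : Subgroup ↥(D.group (KK r))}
    (S : Sit hp r (n + 1) e τ γ E H) (h2 : n + 1 ≠ 2) (hr : r ≠ 2) (hpr : n + 1 ≠ r)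
    {ev : Fin (n + 1) → Fin l → ℤ} (hev : AFr D l ev) {π : Equiv.Perm (Fin (n + 1))}
    (hγ : (∀ i j, i ≠ j → γ (ev i - ev j) = ev (π i) - ev (π j)) ∨
      (∀ i j, i ≠ j → γ (ev i - ev j) = ev (π j) - ev (π i)))
    {w : M.Group} (hw : w ∈ VE hp r E)
    (hws : ∀ i j, i ≠ j → rep M.toCoxeterSystem hp.isCartan w (ev i - ev j) = ev (i + 1) - ev (j + 1))
    (hV : ∀ v ∈ VE hp r E, ∃ m : Fin (n + 1), ∀ i j, i ≠ j →
      rep M.toCoxeterSystem hp.isCartan v (ev i - ev j) = ev (i + m) - ev (j + m))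
    {N : Subgroup ↥(D.group (KK r))}
    (hN : ∀ F ≤ E, F.relIndex E = n + 1 → ∀ u ∈ RGD.Sup (XX D l (KK r)) {v | ∃ i j, i ≠ j ∧ v = ev i - ev j},
      τ u = u → (∀ x ∈ F, x * u = u * x) →
      u ∈ Subgroup.closure {v | v ∈ RGD.Sup (XX D l (KK r)) {v | ∃ i j, i ≠ j ∧ v = ev i - ev j} ∧ τ v = v ∧
        ∃ j : ℕ, v ^ r ^ j = 1} → u ∈ N)
    {u : ↥(D.group (KK r))} (hu : u ∈ RGD.Sup (XX D l (KK r)) {v | ∃ i j, i ≠ j ∧ v = ev i - ev j}) (hτu : τ u = u)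
    (hur : ∃ j : ℕ, u ^ r ^ j = 1) : u ∈ N := by
  have hn2 : 2 ≤ n := by have := hn1.1.two_le; omega
  obtain ⟨ψ, hψ, -⟩ := exists_hom_afr (k := KK r) hp hev hn2 (locFin r)
  obtain ⟨Dm, uni, hσ⟩ := fm_sigma hev hψ S.frob S.fr hn2 hγ
  obtain ⟨f, hf, hfw⟩ := hw
  have hinj := fm_inj hev hψ
  obtain ⟨g, rfl⟩ := fm_Sup hev hψ hu
  obtain ⟨j, hj⟩ := hur
  have hn3 : 3 ≤ n + 1 := by omega
  obtain ⟨x, hx, hxg⟩ := exists_fixed (σ := τ.toMonoidHom) hn3 hpr (exists_ne_one hn3 hinj) hσ hτu hj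
  rw [← hxg]
  have hrange := fm_range hev hψ (by omega)
  exact cyc_sl (σ := τ.toMonoidHom) h2 (linFacts hn1.1 h2) (uniFacts hn1.1 h2) (Or.inr hr) S.he
    (fun a ha => S.el.2 a ha) (fun a ha b hb => comm_E S ha hb) hinj (fun x hx => S.fix x hx) hσ hf
    (fm_act hev hψ hfw hws) (fun x hx => by
      obtain ⟨v, hv⟩ := S.nrm x hx
      obtain ⟨m, hm⟩ := hV v ⟨x, hx, hv⟩
      exact ⟨m, fm_act hev hψ hv hm⟩) (M := N.comap ψ)
    (fun F hFE hFi x hx hxF => hN F hFE hFi (ψ x) (hrange ⟨x, rfl⟩) ((hσ x).trans (by rw [hx]))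
      (fun y hy => (hxF y hy).symm)
      (mem_closure_rr (σ := τ.toMonoidHom) hn3 (not_three_two (Or.inr hr) S.he) S.he hrange hσ hx)) hx

section Three

variable {e : ℕ} {τ : MulAut ↥(D.group (KK r))} {γ : (Fin l → ℤ) ≃+ (Fin l → ℤ)} {E H : Subgroup ↥(D.group (KK r))}

/-- the frame of a root with an orbit of type `A₂` -/
theorem frame3 (S : Sit hp r 3 e τ γ E H) (hG : D ≠ chevG2) {a : Fin l → ℤ}
    (ha : IsRoot M.toCoxeterSystem hp.isCartan a) {ε : ℤ} (hε : ε = 1 ∨ ε = -1) (hγ : γ a = ε • a)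
    {f : M.Group} (hf : f ∈ VE hp r E)
    (h3 : a + rep M.toCoxeterSystem hp.isCartan f a + rep M.toCoxeterSystem hp.isCartan (f ^ 2) a = 0) :
    AFr D l (ev3 a (rep M.toCoxeterSystem hp.isCartan f a)) ∧
    ((∀ i j, i ≠ j → γ (ev3 a (rep M.toCoxeterSystem hp.isCartan f a) i -
        ev3 a (rep M.toCoxeterSystem hp.isCartan f a) j) = ev3 a (rep M.toCoxeterSystem hp.isCartan f a)
          ((Equiv.refl (Fin 3)) i) - ev3 a (rep M.toCoxeterSystem hp.isCartan f a) ((Equiv.refl (Fin 3)) j)) ∨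
      (∀ i j, i ≠ j → γ (ev3 a (rep M.toCoxeterSystem hp.isCartan f a) i -
        ev3 a (rep M.toCoxeterSystem hp.isCartan f a) j) = ev3 a (rep M.toCoxeterSystem hp.isCartan f a)
          ((Equiv.refl (Fin 3)) j) - ev3 a (rep M.toCoxeterSystem hp.isCartan f a) ((Equiv.refl (Fin 3)) i))) ∧
    (∀ i j, i ≠ j → rep M.toCoxeterSystem hp.isCartan f (ev3 a (rep M.toCoxeterSystem hp.isCartan f a) i -
        ev3 a (rep M.toCoxeterSystem hp.isCartan f a) j) = ev3 a (rep M.toCoxeterSystem hp.isCartan f a) (i + 1) -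
          ev3 a (rep M.toCoxeterSystem hp.isCartan f a) (j + 1)) ∧
    {x | ∃ i j, i ≠ j ∧ x = ev3 a (rep M.toCoxeterSystem hp.isCartan f a) i -
        ev3 a (rep M.toCoxeterSystem hp.isCartan f a) j} = {a, -a, rep M.toCoxeterSystem hp.isCartan f a,
      -rep M.toCoxeterSystem hp.isCartan f a, rep M.toCoxeterSystem hp.isCartan (f ^ 2) a,
      -rep M.toCoxeterSystem hp.isCartan (f ^ 2) a} := by
  have := finite_W hp M.toCoxeterSystem
  set cs := M.toCoxeterSystem with hcs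
  have hf3 : f ^ 3 = 1 := VE_pow S hf
  have hsh := fun (v : M.Group) (hv : v ∈ VE hp r E) (j : ℕ) hj =>
    shift3 (hp := hp) (fun v hv w hw => VE_comm S hv hw) hf h3 hf3 (v := v) hv (j := j) hj
  set b := rep cs hp.isCartan f a with hb
  set c := rep cs hp.isCartan (f ^ 2) a with hc
  have hfb : rep cs hp.isCartan f b = c := by rw [hb, hc, pow_two, map_mul, Module.End.mul_apply]
  have e01 := ev3_01 a b
  have e12 := ev3_12 a b
  have e20 := ev3_20 a b c h3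
  have e10 : ev3 a b 1 - ev3 a b 0 = -a := by rw [← neg_sub, e01]
  have e21 : ev3 a b 2 - ev3 a b 1 = -b := by rw [← neg_sub, e12]
  have e02 : ev3 a b 0 - ev3 a b 2 = -c := by rw [← neg_sub, e20]
  have hcases : ∀ i j : Fin 3, i ≠ j → (i = 0 ∧ j = 1) ∨ (i = 1 ∧ j = 2) ∨ (i = 2 ∧ j = 0) ∨ (i = 1 ∧ j = 0) ∨
    (i = 2 ∧ j = 1) ∨ (i = 0 ∧ j = 2) := by decide
  have hev : AFr D l (ev3 a b) := afr_of_three hp cs hG ha (w := f)
    (by rw [← hb, hfb, h3]) e01 (by rw [e12, hb])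
  have hγb : γ b = ε • b := by rw [hb, VE_gam S hf ha, hγ, map_zsmul]
  have hγc : γ c = ε • c := by rw [hc, VE_gam S (pow_mem hf 2) ha, hγ, map_zsmul]
  have h1 : ∀ i j, i ≠ j → γ (ev3 a b i - ev3 a b j) = ε • (ev3 a b i - ev3 a b j) := by
    intro i j hij
    rcases hcases i j hij with ⟨rfl, rfl⟩ | ⟨rfl, rfl⟩ | ⟨rfl, rfl⟩ | ⟨rfl, rfl⟩ | ⟨rfl, rfl⟩ | ⟨rfl, rfl⟩
    · rw [e01, hγ]
    · rw [e12, hγb]
    · rw [e20, hγc]
    · rw [e10, map_neg, hγ, smul_neg]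
    · rw [e21, map_neg, hγb, smul_neg]
    · rw [e02, map_neg, hγc, smul_neg]
  refine ⟨hev, ?_, ?_, ?_⟩
  · rcases hε with rfl | rfl
    · left
      intro i j hij
      rw [h1 i j hij, one_smul]
      rfl
    · right
      intro i j hij
      rw [h1 i j hij, neg_one_smul, neg_sub]
      rfl
  · intro i j hij
    obtain ⟨m, hm⟩ := hsh f hf 1 (by rw [pow_one])
    have h4 := hm 0 1 (by decide)
    rw [e01, ← hb] at h4
    have hm1 : m = 1 := by
      have hb0 : b ≠ 0 := (ha.act f).ne_zero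
      have ha0 : a ≠ 0 := ha.ne_zero
      have hm3 : m = 0 ∨ m = 1 ∨ m = 2 := (by decide : ∀ m : Fin 3, m = 0 ∨ m = 1 ∨ m = 2) m
      rcases hm3 with rfl | rfl | rfl
      · exfalso
        have h5 : b = a := h4.trans e01
        have h6 : c = a := by rw [← hfb, h5, ← hb, h5]
        rw [h5, h6] at h3
        apply ha0
        have h7 : (3 : ℤ) • a = 0 := by rw [← h3]; module
        rcases smul_eq_zero.1 h7 with h8 | h8
        · norm_num at h8
        · exact h8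
      · rfl
      · exfalso
        have h5 : b = c := h4.trans e20
        have h6 : rep cs hp.isCartan f a = rep cs hp.isCartan f b := by rw [hfb, ← hb, h5]
        have h8 : a = b := by
          have h9 := congrArg (rep cs hp.isCartan f⁻¹) h6
          rwa [← Module.End.mul_apply, ← Module.End.mul_apply, ← map_mul, inv_mul_cancel, map_one,
            Module.End.one_apply, Module.End.one_apply] at h9
        rw [← h8] at h5
        rw [← h8, ← h5] at h3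
        apply ha0
        have h7 : (3 : ℤ) • a = 0 := by rw [← h3]; module
        rcases smul_eq_zero.1 h7 with h8 | h8
        · norm_num at h8
        · exact h8
    subst hm1
    exact hm i j hij
  · ext x
    constructor
    · rintro ⟨i, j, hij, rfl⟩
      rcases hcases i j hij with ⟨rfl, rfl⟩ | ⟨rfl, rfl⟩ | ⟨rfl, rfl⟩ | ⟨rfl, rfl⟩ | ⟨rfl, rfl⟩ | ⟨rfl, rfl⟩
      · rw [e01]; simp
      · rw [e12]; simp
      · rw [e20]; simp
      · rw [e10]; simp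
      · rw [e21]; simp
      · rw [e02]; simp
    · rintro (rfl | rfl | rfl | rfl | rfl | rfl)
      · exact ⟨0, 1, by decide, e01.symm⟩
      · exact ⟨1, 0, by decide, e10.symm⟩
      · exact ⟨1, 2, by decide, e12.symm⟩
      · exact ⟨2, 1, by decide, e21.symm⟩
      · exact ⟨2, 0, by decide, e20.symm⟩
      · exact ⟨0, 2, by decide, e02.symm⟩

/-- **`p = 3`, any root, general form.** -/
theorem core (S : Sit hp r 3 e τ γ E H) (hG : D ≠ chevG2) (hr : r ≠ 2) (hpr : 3 ≠ r) {a : Fin l → ℤ}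
    (ha : IsRoot M.toCoxeterSystem hp.isCartan a) {ε : ℤ} (hε : ε = 1 ∨ ε = -1) (hγ : γ a = ε • a)
    {f : M.Group} (hf : f ∈ VE hp r E)
    (h3 : a + rep M.toCoxeterSystem hp.isCartan f a + rep M.toCoxeterSystem hp.isCartan (f ^ 2) a = 0)
    (horb : ∀ v ∈ VE hp r E, ∃ j : ℕ,
      rep M.toCoxeterSystem hp.isCartan v a = rep M.toCoxeterSystem hp.isCartan (f ^ j) a)
    {R : Set (Fin l → ℤ)} (hR : R = {a, -a, rep M.toCoxeterSystem hp.isCartan f a,
      -rep M.toCoxeterSystem hp.isCartan f a, rep M.toCoxeterSystem hp.isCartan (f ^ 2) a,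
      -rep M.toCoxeterSystem hp.isCartan (f ^ 2) a})
    {N : Subgroup ↥(D.group (KK r))}
    (hN : ∀ F ≤ E, F.relIndex E = 3 → ∀ u ∈ RGD.Sup (XX D l (KK r)) R, τ u = u → (∀ x ∈ F, x * u = u * x) →
      u ∈ Subgroup.closure {v | v ∈ RGD.Sup (XX D l (KK r)) R ∧ τ v = v ∧ ∃ j : ℕ, v ^ r ^ j = 1} → u ∈ N)
    {u : ↥(D.group (KK r))} (hu : u ∈ RGD.Sup (XX D l (KK r)) R) (hτu : τ u = u)
    (hur : ∃ j : ℕ, u ^ r ^ j = 1) : u ∈ N := by
  have := finite_W hp M.toCoxeterSystem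
  have hF3 : Fact (2 + 1).Prime := ⟨Nat.prime_three⟩
  obtain ⟨hev, h1, h4, h5⟩ := frame3 S hG ha hε hγ hf h3
  have hRR := hR.trans h5.symm
  subst hRR
  exact core_afr (n := 2) S (by norm_num) hr hpr hev h1 hf h4 (fun v hv => by
    obtain ⟨j, hj⟩ := horb v hv
    exact shift3 (hp := hp) (fun v hv w hw => VE_comm S hv hw) hf h3 (VE_pow S hf) hv hj) hN hu hτu hur

end Three

/-- **M5A** (the form of `H496.Mono.Stmt`) -/
theorem p5_orbA (h : HiList D) (hG : D ≠ chevG2) : P5 hp r 3 (OrbA hp) := by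
  intro e τ γ E H S hE hr hpr hq ε hε a ha hO
  obtain ⟨f, -, h1⟩ := inS_A S hG hr hpr (LL_root h hp M.toCoxeterSystem ha.1) hε.1 ha.2 hO
  refine InS.mono h1 ?_
  rintro x (rfl | rfl)
  · exact Or.inl rfl
  · exact Or.inr (Or.inl rfl)

end Cfsg.Agent.H321.Mono
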