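import Cfsg.Agent.H321.Mono.Nine
import Cfsg.Agent.H321.Mono.OrbC

/-!
# S2187, X4: orbits of nine roots (M5N)

* `comm_orth` : root elements of orthogonal long roots commute;
* `inS_N` : nine roots, three orthogonal systems of type `A₂`, `p = 3`; `p5_orbN` : `P5 hp r 3 (OrbN hp)`.
-/

set_option autoImplicit false
set_option linter.unusedSectionVars false

namespace Cfsg.Agent.H321.Mono

open CoxeterSystem Cfsg Cfsg.Lie Cfsg.Lie.ChevalleyDatum
open Cfsg.Agent.ChevalleyStructure Cfsg.Agent.ChevalleyStructure.Elts Cfsg.Agent.ChevalleyStructure.CoxeterGeom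
  Cfsg.Agent.ChevalleyStructure.CoxeterGeomTypes Cfsg.Agent.ChevalleyStructure.NPerm
open Cfsg.Agent.Tits.Roots Cfsg.Agent.Tits.Core Cfsg.Agent.Nodes Cfsg.Agent.Nodes.Reps Cfsg.Agent.Nodes.BNOf
  Cfsg.Agent.Nodes.SubComb Cfsg.Agent.Nodes.RGDChev Cfsg.Agent.Nodes.Bruhat Cfsg.Agent.Nodes.Coroot
open Cfsg.Agent.KFacts.RgdField Cfsg.Agent.KFacts.RgdChevCoord
open Cfsg.Agent.BpExc Cfsg.Agent.BpExc.TorCent Cfsg.Agent.BpExc.TorChev Cfsg.Agent.BpExc.Tow
  Cfsg.Agent.BpExc.TowChev Cfsg.Agent.BpExc.Fr Cfsg.Agent.BpExc.LangFr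
open Cfsg.Agent.H469.Exc Cfsg.Agent.H316.U6 Cfsg.Agent.H818.Gen Cfsg.Agent.H818.Mono Cfsg.Agent.H696.GmnToral
open Cfsg.Agent.H225.Gen (LL LL_rep LL_root LL_neg LL_long)
open Cfsg.Agent.H496.Mono
open Cfsg.Agent.H818.StrP.UTab
open Cfsg.Agent.H46.Gen (AFr Rt xf sgn sgn_ne_zero xf_inj exists_hom_afr rt_iff afr_of_three xc_commute)
open Cfsg.Agent.H321.Ker
open scoped MatrixGroups
open Matrix.SpecialLinearGroup (transvection)

variable {D : ChevalleyDatum} {l : ℕ} {M : CoxeterMatrix (Fin l)} {hp : IsType D l M} {r : ℕ} [Fact r.Prime]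

/-- root elements of orthogonal long roots commute -/
theorem comm_orth (h : HiList D) {x y : Fin l → ℤ} (hx : x ∈ LL M.toCoxeterSystem hp)
    (hy : y ∈ LL M.toCoxeterSystem hp) (h0 : cpr M.toCoxeterSystem hp.isCartan y x = 0) (s t : KK r) :
    Commute (xc hp x s) (xc hp y t) := by
  have := finite_W hp M.toCoxeterSystem
  have hxr := LL_root h hp M.toCoxeterSystem hx
  have hyr := LL_root h hp M.toCoxeterSystem hy
  have h1 : cpr M.toCoxeterSystem hp.isCartan x y = 0 := (cpr_zero_comm _ _ hyr hxr).1 h0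
  have hL := LL_long h hp M.toCoxeterSystem
  refine xc_commute hp ((rt_iff hp M.toCoxeterSystem).2 hxr) ((rt_iff hp M.toCoxeterSystem).2 hyr) ?_
    (Or.inr fun m n hm hn hR => ?_) s t
  · rintro rfl
    rw [cpr_neg _ _ _ hxr, cpr_self _ _ hxr] at h0
    norm_num at h0
  · have hz := (rt_iff hp M.toCoxeterSystem).1 hR
    set z := (m : ℤ) • x + (n : ℤ) • y with hzdef
    have e1 : cpr M.toCoxeterSystem hp.isCartan z x = 2 * m := by
      rw [hzdef, cpr_add _ _ _ _ hxr, cpr_smul _ _ _ _ hxr, cpr_smul _ _ _ _ hxr, cpr_self _ _ hxr, h0]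
      ring
    have e2 : cpr M.toCoxeterSystem hp.isCartan z y = 2 * n := by
      rw [hzdef, cpr_add _ _ _ _ hyr, cpr_smul _ _ _ _ hyr, cpr_smul _ _ _ _ hyr, cpr_self _ _ hyr, h1]
      ring
    have e3 : z = x := by
      by_contra hne
      have := hL.le x hx z hz hne
      rw [e1] at this
      omega
    rw [e3, h1] at e2
    omega

section Nine

variable {e : ℕ} {τ : MulAut ↥(D.group (KK r))} {γ : (Fin l → ℤ) ≃+ (Fin l → ℤ)} {E H : Subgroup ↥(D.group (KK r))}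

/-- **M5N: nine roots.** -/
theorem inS_N (h : HiList D) (S : Sit hp r 3 e τ γ E H) (hG : D ≠ chevG2) (hr : r ≠ 2) (hpr : 3 ≠ r)
    {a : Fin l → ℤ} (ha : a ∈ LL M.toCoxeterSystem hp) {ε : ℤ} (hε : ε = 1 ∨ ε = -1) (hγ : γ a = ε • a)
    (hO : OrbN hp (VE hp r E) a) :
    ∃ f ∈ VE hp r E, InS r l τ H {a, -a, rep M.toCoxeterSystem hp.isCartan f a,
      -rep M.toCoxeterSystem hp.isCartan f a, rep M.toCoxeterSystem hp.isCartan (f ^ 2) a,
      -rep M.toCoxeterSystem hp.isCartan (f ^ 2) a} := by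
  have := finite_W hp M.toCoxeterSystem
  obtain ⟨f, hf, g, hg, h3, hV, hcp⟩ := hO
  refine ⟨f, hf, ?_⟩
  have har := LL_root h hp M.toCoxeterSystem ha
  obtain ⟨hev, hγ', hws, hset⟩ := frame3 S hG har hε hγ hf h3
  rw [← hset]
  obtain ⟨ψ, hψ, -⟩ := exists_hom_afr (k := KK r) hp hev le_rfl (locFin r)
  obtain ⟨Dm, uni, hσ⟩ := fm_sigma hev hψ S.frob S.fr le_rfl hγ'
  obtain ⟨f', hf', hfw⟩ := id hf
  obtain ⟨g', hg', hgw⟩ := id hg
  have hf3 : f ^ 3 = 1 := VE_pow S hf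
  have hfg : f * g = g * f := VE_comm S hf hg
  -- orthogonality
  have hroot : ∀ x ∈ ({a, -a, rep M.toCoxeterSystem hp.isCartan f a, -rep M.toCoxeterSystem hp.isCartan f a,
      rep M.toCoxeterSystem hp.isCartan (f ^ 2) a, -rep M.toCoxeterSystem hp.isCartan (f ^ 2) a} : Set (Fin l → ℤ)),
      ∃ (m : ℕ), m ≤ 2 ∧ (x = rep M.toCoxeterSystem hp.isCartan (f ^ m) a ∨
        x = -rep M.toCoxeterSystem hp.isCartan (f ^ m) a) := by
    rintro x (rfl | rfl | rfl | rfl | rfl | rfl)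
    · exact ⟨0, by norm_num, Or.inl (by rw [pow_zero, map_one, Module.End.one_apply])⟩
    · exact ⟨0, by norm_num, Or.inr (by rw [pow_zero, map_one, Module.End.one_apply])⟩
    · exact ⟨1, by norm_num, Or.inl (by rw [pow_one])⟩
    · exact ⟨1, by norm_num, Or.inr (by rw [pow_one])⟩
    · exact ⟨2, le_rfl, Or.inl rfl⟩
    · exact ⟨2, le_rfl, Or.inr rfl⟩
  have horth0 : ∀ m m' : ℕ, m ≤ 2 → cpr M.toCoxeterSystem hp.isCartan
      (rep M.toCoxeterSystem hp.isCartan (g * f ^ m') a) (rep M.toCoxeterSystem hp.isCartan (f ^ m) a) = 0 := by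
    intro m m' hm
    have h1 : g * f ^ m' = f ^ m * (g ^ 1 * f ^ (m' + (3 - m))) := by
      have h2 : Commute (f ^ m) g := (show Commute f g from hfg).pow_left m
      rw [pow_one, ← mul_assoc, h2.eq, mul_assoc, ← pow_add]
      congr 1
      rw [show m + (m' + (3 - m)) = m' + 3 by omega, pow_add, hf3, mul_one]
    rw [h1, map_mul, Module.End.mul_apply, cpr_rep _ _ _ _ har]
    exact hcp 1 _ (by norm_num)
  have horth : ∀ x y : Fin l → ℤ, x ∈ {x | ∃ i j, i ≠ j ∧ x = ev3 a (rep M.toCoxeterSystem hp.isCartan f a) i -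
        ev3 a (rep M.toCoxeterSystem hp.isCartan f a) j} → y ∈ {x | ∃ i j, i ≠ j ∧
        x = ev3 a (rep M.toCoxeterSystem hp.isCartan f a) i - ev3 a (rep M.toCoxeterSystem hp.isCartan f a) j} →
      x ∈ LL M.toCoxeterSystem hp ∧ rep M.toCoxeterSystem hp.isCartan g y ∈ LL M.toCoxeterSystem hp ∧
      cpr M.toCoxeterSystem hp.isCartan (rep M.toCoxeterSystem hp.isCartan g y) x = 0 := by
    intro x y hx hy
    rw [hset] at hx hy
    obtain ⟨m, hm, hx⟩ := hroot x hx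
    obtain ⟨m', hm', hy⟩ := hroot y hy
    have l1 : rep M.toCoxeterSystem hp.isCartan (f ^ m) a ∈ LL M.toCoxeterSystem hp := LL_rep _ _ ha _
    have l2 : rep M.toCoxeterSystem hp.isCartan (f ^ m') a ∈ LL M.toCoxeterSystem hp := LL_rep _ _ ha _
    have l1r := LL_root h hp M.toCoxeterSystem l1
    have e1 := horth0 m m' hm
    rw [map_mul, Module.End.mul_apply] at e1
    refine ⟨?_, LL_rep _ _ ?_ _, ?_⟩
    · rcases hx with rfl | rfl
      · exact l1
      · exact LL_neg h hp _ l1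
    · rcases hy with rfl | rfl
      · exact l2
      · exact LL_neg h hp _ l2
    · rcases hx with rfl | rfl <;> rcases hy with rfl | rfl
      · exact e1
      · rw [map_neg, cpr_neg _ _ _ l1r, e1, _root_.neg_zero]
      · rw [cpr_neg_right _ _ _ l1r, e1, _root_.neg_zero]
      · rw [map_neg, cpr_neg_right _ _ _ l1r, cpr_neg _ _ _ l1r, e1, _root_.neg_zero, _root_.neg_zero]
  -- the copies commute
  have hcomm : ∀ x y, Commute (ψ x) (g' * ψ y * g'⁻¹) := by
    have : Nontrivial (Fin 3) := Fin.nontrivial_iff_two_le.2 (by norm_num)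
    have h1 : ∀ (i j : Fin 3) (hij : i ≠ j) (t : KK r) (i' j' : Fin 3) (hij' : i' ≠ j') (s : KK r),
        Commute (ψ (transvection hij t)) (g' * ψ (transvection hij' s) * g'⁻¹) := by
      intro i j hij t i' j' hij' s
      rw [hψ, hψ]
      unfold xf
      obtain ⟨u, hu, h2⟩ := conj_form hgw (fm_root (hp := hp) hev hij')
      rw [h2]
      obtain ⟨l1, l2, l3⟩ := horth _ _ ⟨i, j, hij, rfl⟩ ⟨i', j', hij', rfl⟩
      exact comm_orth h l1 l2 l3 _ _
    have h2 : ∀ (i j : Fin 3) (hij : i ≠ j) (t : KK r) y, Commute (ψ (transvection hij t)) (g' * ψ y * g'⁻¹) := by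
      intro i j hij t y
      refine Cfsg.Agent.LieClassical.SLGen.transvection_induction
        (fun y => Commute (ψ (transvection hij t)) (g' * ψ y * g'⁻¹)) (fun i' j' hij' s => h1 i j hij t i' j' hij' s)
        (fun A B hA hB => ?_) y
      have e1 : g' * ψ (A * B) * g'⁻¹ = (g' * ψ A * g'⁻¹) * (g' * ψ B * g'⁻¹) := by rw [map_mul]; group
      rw [e1]
      exact hA.mul_right hB
    intro x y
    refine Cfsg.Agent.LieClassical.SLGen.transvection_induction
      (fun x => Commute (ψ x) (g' * ψ y * g'⁻¹)) (fun i j hij t => h2 i j hij t y) (fun A B hA hB => ?_) x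
    rw [map_mul]
    exact hA.mul_left hB
  intro u hu hτu hur
  have hF3 : Fact (Nat.Prime 3) := ⟨Nat.prime_three⟩
  refine nine_mem (σ := τ.toMonoidHom) (linFacts hF3.1 (by norm_num)) (uniFacts hF3.1 (by norm_num)) hr hpr S.he
    (fun a ha => S.el.2 a ha) (fun a ha b hb => comm_E S ha hb) (fm_inj hev hψ) (fun x hx => S.fix x hx) hσ hf'
    (fm_act hev hψ hfw hws) hg' hcomm (fun x hx => ?_) (fun F hF hFi u hu hux => S.cent F hF hFi u hu hux)
    (fm_Sup hev hψ hu) hτu hur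
  obtain ⟨v, hv⟩ := S.nrm x hx
  obtain ⟨i, j, hij⟩ := hV v ⟨x, hx, hv⟩
  have hvV : v ∈ VE hp r E := ⟨x, hx, hv⟩
  have hvg : v * (g ^ i)⁻¹ ∈ VE hp r E := mul_mem hvV (inv_mem (pow_mem hg i))
  have h1 : rep M.toCoxeterSystem hp.isCartan (v * (g ^ i)⁻¹) a = rep M.toCoxeterSystem hp.isCartan (f ^ j) a := by
    rw [VE_comm S hvV (inv_mem (pow_mem hg i)), map_mul, Module.End.mul_apply, hij, ← Module.End.mul_apply, ← map_mul,
      inv_mul_cancel_left]
  obtain ⟨m, hm⟩ := shift3 (hp := hp) (fun v hv w hw => VE_comm S hv hw) hf h3 hf3 hvg h1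
  exact ⟨i, m, fm_act hev hψ (nr_mul hv (nr_inv (nr_pow hgw i))) hm⟩

/-- **M5N** (the form of `H496.Mono.Stmt`) -/
theorem p5_orbN (h : HiList D) (hG : D ≠ chevG2) : P5 hp r 3 (OrbN hp) := by
  intro e τ γ E H S _ hr hpr hq ε hε a ha hO
  obtain ⟨f, -, h1⟩ := inS_N h S hG hr hpr ha.1 hε.1 ha.2 hO
  refine InS.mono h1 ?_
  rintro x (rfl | rfl)
  · exact Or.inl rfl
  · exact Or.inr (Or.inl rfl)

end Nine

end Cfsg.Agent.H321.Mono
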