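import Cfsg.Agent.H321.Mono.Quasi

/-!
# S2187, X4: three commuting copies of a quasisimple group

* `triple` : `K` quasisimple, `j₀, j₁, j₂ : K → Y` commute, `φ` an automorphism of order 3, not inner-central; a subgroup `H`
  which contains `j₀ x j₁ x j₂ x` and `j₀ x j₁ (φ x) j₂ (φ² x)` contains the three images.
-/

set_option autoImplicit false
set_option linter.unusedSectionVars false

namespace Cfsg.Agent.H321.Mono

open scoped commutatorElement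

variable {K Y : Type*} [Group K] [Group Y]

/-- `[K, φ]` is everything -/
theorem closure_comm_eq_top (hK : Quasi K) {φ : K →* K} (hφ : ∃ x, x⁻¹ * φ x ∉ Subgroup.center K) :
    Subgroup.closure (Set.range fun x => x⁻¹ * φ x) = ⊤ := by
  have hn : (Subgroup.closure (Set.range fun x => x⁻¹ * φ x)).Normal := by
    refine ⟨fun y hy g => ?_⟩
    have h1 : Subgroup.closure (Set.range fun x => x⁻¹ * φ x) ≤
        (Subgroup.closure (Set.range fun x => x⁻¹ * φ x)).comap (MulAut.conj g).toMonoidHom := by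
      rw [Subgroup.closure_le]
      rintro _ ⟨x, rfl⟩
      show g * (x⁻¹ * φ x) * g⁻¹ ∈ Subgroup.closure (Set.range fun x => x⁻¹ * φ x)
      have h2 : g * (x⁻¹ * φ x) * g⁻¹ = ((x * g⁻¹)⁻¹ * φ (x * g⁻¹)) * (g⁻¹⁻¹ * φ g⁻¹)⁻¹ := by
        rw [map_mul]; group
      rw [h2]
      exact mul_mem (Subgroup.subset_closure ⟨_, rfl⟩) (inv_mem (Subgroup.subset_closure ⟨_, rfl⟩))
    exact h1 hy
  rcases hK.nrm _ hn with h | h
  · obtain ⟨x, hx⟩ := hφ
    exact absurd (h (Subgroup.subset_closure ⟨x, rfl⟩)) hx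
  · exact h

/-- generating sets with central commutators: the group is trivial -/
theorem comm_absurd (hK : Quasi K) {A B : Set K} (hA : Subgroup.closure A = ⊤) (hB : Subgroup.closure B = ⊤)
    (h : ∀ a ∈ A, ∀ b ∈ B, ⁅a, b⁆ ∈ Subgroup.center K) : ∀ x : K, x ∈ Subgroup.center K := by
  -- the quotient by the centre is commutative
  set q := QuotientGroup.mk' (Subgroup.center K) with hq
  have hqs : Function.Surjective q := QuotientGroup.mk'_surjective _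
  have h1 : ∀ a ∈ A, ∀ b ∈ B, q a * q b = q b * q a := by
    intro a ha b hb
    have h2 : q ⁅a, b⁆ = 1 := (QuotientGroup.eq_one_iff _).2 (h a ha b hb)
    rw [map_commutatorElement] at h2
    exact commutatorElement_eq_one_iff_mul_comm.1 h2
  have h2 : ∀ x : K, ∀ b ∈ B, q x * q b = q b * q x := by
    intro x b hb
    have hx : x ∈ Subgroup.closure A := by rw [hA]; exact Subgroup.mem_top _
    have h3 : Subgroup.closure A ≤ (Subgroup.centralizer {q b}).comap q := by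
      rw [Subgroup.closure_le]
      intro a ha
      show q a ∈ Subgroup.centralizer {q b}
      rw [Subgroup.mem_centralizer_singleton_iff]
      exact h1 a ha b hb
    have h4 := h3 hx
    rw [Subgroup.mem_comap, Subgroup.mem_centralizer_singleton_iff] at h4
    exact h4
  have h3 : ∀ x y : K, q x * q y = q y * q x := by
    intro x y
    have hy : y ∈ Subgroup.closure B := by rw [hB]; exact Subgroup.mem_top _
    have h3 : Subgroup.closure B ≤ (Subgroup.centralizer {q x}).comap q := by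
      rw [Subgroup.closure_le]
      intro b hb
      show q b ∈ Subgroup.centralizer {q x}
      rw [Subgroup.mem_centralizer_singleton_iff]
      exact (h2 x b hb).symm
    have h4 := h3 hy
    rw [Subgroup.mem_comap, Subgroup.mem_centralizer_singleton_iff] at h4
    exact h4.symm
  intro x
  have hx : x ∈ commutator K := by rw [hK.perf]; exact Subgroup.mem_top _
  have h4 : commutator K ≤ Subgroup.center K := by
    rw [commutator_def, Subgroup.commutator_le]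
    intro a _ b _
    have h5 : q ⁅a, b⁆ = 1 := by
      rw [map_commutatorElement]
      exact commutatorElement_eq_one_iff_mul_comm.2 (h3 a b)
    exact (QuotientGroup.eq_one_iff _).1 h5
  exact h4 hx

/-- the third factor -/
theorem triple_third (hK : Quasi K) {j₀ j₁ j₂ : K →* Y} (h01 : ∀ x y, Commute (j₀ x) (j₁ y))
    (h02 : ∀ x y, Commute (j₀ x) (j₂ y)) (h12 : ∀ x y, Commute (j₁ x) (j₂ y)) {φ : K →* K}
    (hφ3 : ∀ x, φ (φ (φ x)) = x) (hφ : ∃ x, x⁻¹ * φ x ∉ Subgroup.center K) {H : Subgroup Y}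
    (h1 : ∀ x, j₀ x * j₁ x * j₂ x ∈ H) (h2 : ∀ x, j₀ x * j₁ (φ x) * j₂ (φ (φ x)) ∈ H) (x : K) : j₂ x ∈ H := by
  -- the normal subgroup
  have hn : (H.comap j₂).Normal := by
    refine ⟨fun y hy g => ?_⟩
    rw [Subgroup.mem_comap] at hy ⊢
    have h3 := mul_mem (mul_mem (h1 g) hy) (inv_mem (h1 g))
    have h4 : j₀ g * j₁ g * j₂ g * j₂ y * (j₀ g * j₁ g * j₂ g)⁻¹ = j₂ (g * y * g⁻¹) := by
      have h5 : Commute (j₀ g * j₁ g) (j₂ (g * y * g⁻¹)) := (h02 g _).mul_left (h12 g _)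
      calc j₀ g * j₁ g * j₂ g * j₂ y * (j₀ g * j₁ g * j₂ g)⁻¹ =
            (j₀ g * j₁ g) * (j₂ g * j₂ y * (j₂ g)⁻¹) * (j₀ g * j₁ g)⁻¹ := by group
        _ = (j₀ g * j₁ g) * j₂ (g * y * g⁻¹) * (j₀ g * j₁ g)⁻¹ := by rw [map_mul, map_mul, map_inv]
        _ = _ := by rw [h5.eq, mul_inv_cancel_right]
    rwa [h4] at h3
  -- the commutators
  have hc : ∀ a b, j₂ ⁅a⁻¹ * φ (φ a), (φ b)⁻¹ * φ (φ b)⁆ ∈ H := by
    intro a b
    have h3 : j₁ (a⁻¹ * φ a) * j₂ (a⁻¹ * φ (φ a)) ∈ H := by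
      have h4 := mul_mem (inv_mem (h1 a)) (h2 a)
      have h5 : (j₀ a * j₁ a * j₂ a)⁻¹ * (j₀ a * j₁ (φ a) * j₂ (φ (φ a))) =
          j₁ (a⁻¹ * φ a) * j₂ (a⁻¹ * φ (φ a)) := by
        have h6 : Commute (j₂ a⁻¹) (j₁ (a⁻¹ * φ a)) := (h12 _ _).symm
        calc (j₀ a * j₁ a * j₂ a)⁻¹ * (j₀ a * j₁ (φ a) * j₂ (φ (φ a))) =
              (j₂ a)⁻¹ * ((j₁ a)⁻¹ * ((j₀ a)⁻¹ * j₀ a) * j₁ (φ a)) * j₂ (φ (φ a)) := by group
          _ = j₂ a⁻¹ * j₁ (a⁻¹ * φ a) * j₂ (φ (φ a)) := by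
              rw [inv_mul_cancel, mul_one, map_mul, map_inv, map_inv]
          _ = _ := by rw [h6.eq, map_mul j₂]; group
      rwa [h5] at h4
    have h4 : j₀ ((φ b)⁻¹ * b) * j₂ ((φ b)⁻¹ * φ (φ b)) ∈ H := by
      have h5 := mul_mem (inv_mem (h1 (φ b))) (h2 b)
      have h6 : (j₀ (φ b) * j₁ (φ b) * j₂ (φ b))⁻¹ * (j₀ b * j₁ (φ b) * j₂ (φ (φ b))) =
          j₀ ((φ b)⁻¹ * b) * j₂ ((φ b)⁻¹ * φ (φ b)) := by
        have h7 : Commute (j₁ (φ b)) (j₀ ((φ b)⁻¹ * b)) := (h01 _ _).symm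
        have h8 : Commute (j₂ (φ b))⁻¹ (j₀ ((φ b)⁻¹ * b)) := (h02 _ _).symm.inv_left
        calc (j₀ (φ b) * j₁ (φ b) * j₂ (φ b))⁻¹ * (j₀ b * j₁ (φ b) * j₂ (φ (φ b))) =
              (j₂ (φ b))⁻¹ * ((j₁ (φ b))⁻¹ * ((j₀ (φ b))⁻¹ * j₀ b) * j₁ (φ b)) * j₂ (φ (φ b)) := by group
          _ = (j₂ (φ b))⁻¹ * ((j₁ (φ b))⁻¹ * (j₀ ((φ b)⁻¹ * b) * j₁ (φ b))) * j₂ (φ (φ b)) := by
              rw [← map_inv j₀, ← map_mul j₀]; group
          _ = (j₂ (φ b))⁻¹ * j₀ ((φ b)⁻¹ * b) * j₂ (φ (φ b)) := by rw [← h7.eq]; group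
          _ = _ := by rw [h8.eq, map_mul j₂, map_inv]; group
      rwa [h6] at h5
    have h5 : ⁅j₁ (a⁻¹ * φ a) * j₂ (a⁻¹ * φ (φ a)), j₀ ((φ b)⁻¹ * b) * j₂ ((φ b)⁻¹ * φ (φ b))⁆ ∈ H := by
      rw [commutatorElement_def]
      exact mul_mem (mul_mem (mul_mem h3 h4) (inv_mem h3)) (inv_mem h4)
    have h6 : ∀ u u' v v' : K, ⁅j₁ u * j₂ u', j₀ v * j₂ v'⁆ = j₂ ⁅u', v'⁆ := by
      intro u u' v v'
      have c1 : Commute (j₁ u) (j₀ v) := (h01 _ _).symm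
      have c2 : Commute (j₁ u) (j₂ v') := h12 _ _
      have c3 : Commute (j₂ u') (j₀ v) := (h02 _ _).symm
      have c4 : Commute (j₁ u) (j₂ u') := h12 _ _
      have c5 : Commute (j₀ v) (j₂ v') := h02 _ _
      have e1 : Commute (j₁ u) (j₀ v * j₂ v') := c1.mul_right c2
      have e2 : Commute (j₀ v) (j₂ u') := c3.symm
      rw [map_commutatorElement, commutatorElement_def, commutatorElement_def]
      calc j₁ u * j₂ u' * (j₀ v * j₂ v') * (j₁ u * j₂ u')⁻¹ * (j₀ v * j₂ v')⁻¹ =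
            j₁ u * (j₂ u' * (j₀ v * j₂ v') * (j₂ u')⁻¹) * (j₁ u)⁻¹ * (j₀ v * j₂ v')⁻¹ := by group
        _ = j₁ u * (j₀ v * (j₂ u' * j₂ v' * (j₂ u')⁻¹)) * (j₁ u)⁻¹ * (j₀ v * j₂ v')⁻¹ := by
            rw [← mul_assoc (j₂ u') (j₀ v), c3.eq]; group
        _ = (j₀ v * (j₂ u' * j₂ v' * (j₂ u')⁻¹)) * (j₀ v * j₂ v')⁻¹ := by
            have e3 : Commute (j₁ u) (j₀ v * (j₂ u' * j₂ v' * (j₂ u')⁻¹)) :=
              c1.mul_right ((c4.mul_right c2).mul_right c4.inv_right)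
            rw [e3.eq, mul_inv_cancel_right]
        _ = j₀ v * ((j₂ u' * j₂ v' * (j₂ u')⁻¹) * (j₂ v')⁻¹) * (j₀ v)⁻¹ := by group
        _ = _ := by
            have e4 : Commute (j₀ v) ((j₂ u' * j₂ v' * (j₂ u')⁻¹) * (j₂ v')⁻¹) :=
              ((e2.mul_right c5).mul_right e2.inv_right).mul_right c5.inv_right
            rw [e4.eq, mul_inv_cancel_right]
    rwa [h6] at h5
  rcases hK.nrm _ hn with h | h
  · exfalso
    -- `φ ∘ φ` is not central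
    have hφ2 : ∃ x, x⁻¹ * (φ.comp φ) x ∉ Subgroup.center K := by
      by_contra hno
      push Not at hno
      obtain ⟨x, hx⟩ := hφ
      apply hx
      have h3 := hno x
      have h4 := hno (φ (φ x))
      have h5 : (φ (φ x))⁻¹ * φ (φ (φ (φ x))) ∈ Subgroup.center K := h4
      rw [hφ3 (φ x)] at h5
      have h6 : x⁻¹ * φ x = (x⁻¹ * φ (φ x)) * ((φ (φ x))⁻¹ * φ x) := by group
      rw [h6]
      exact mul_mem h3 h5
    have hA := closure_comm_eq_top hK hφ2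
    have hB := closure_comm_eq_top hK hφ
    have h3 := comm_absurd hK hA hB (by
      rintro _ ⟨a, rfl⟩ _ ⟨b, rfl⟩
      have h4 := hc a (φ (φ b))
      rw [hφ3] at h4
      exact h h4)
    obtain ⟨x, hx⟩ := hφ
    exact hx (h3 _)
  · have hx : x ∈ H.comap j₂ := by rw [h]; exact Subgroup.mem_top _
    exact hx

/-- **Three commuting copies of a quasisimple group.** -/
theorem triple (hK : Quasi K) {j₀ j₁ j₂ : K →* Y} (h01 : ∀ x y, Commute (j₀ x) (j₁ y))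
    (h02 : ∀ x y, Commute (j₀ x) (j₂ y)) (h12 : ∀ x y, Commute (j₁ x) (j₂ y)) {φ : K →* K}
    (hφ3 : ∀ x, φ (φ (φ x)) = x) (hφ : ∃ x, x⁻¹ * φ x ∉ Subgroup.center K) {H : Subgroup Y}
    (h1 : ∀ x, j₀ x * j₁ x * j₂ x ∈ H) (h2 : ∀ x, j₀ x * j₁ (φ x) * j₂ (φ (φ x)) ∈ H) (x : K) :
    j₀ x ∈ H ∧ j₁ x ∈ H ∧ j₂ x ∈ H := by
  have h3 := triple_third hK h01 h02 h12 hφ3 hφ h1 h2 x
  have hφ2 : ∃ x, x⁻¹ * (φ.comp φ) x ∉ Subgroup.center K := by
    by_contra hno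
    push Not at hno
    obtain ⟨x, hx⟩ := hφ
    apply hx
    have h3 := hno x
    have h4 := hno (φ (φ x))
    have h5 : (φ (φ x))⁻¹ * φ (φ (φ (φ x))) ∈ Subgroup.center K := h4
    rw [hφ3 (φ x)] at h5
    have h6 : x⁻¹ * φ x = (x⁻¹ * φ (φ x)) * ((φ (φ x))⁻¹ * φ x) := by group
    rw [h6]
    exact mul_mem h3 h5
  have h4 : j₁ x ∈ H := by
    refine triple_third hK (j₀ := j₀) (j₁ := j₂) (j₂ := j₁) h02 h01 (fun x y => (h12 y x).symm) (φ := φ.comp φ)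
      (fun x => ?_) hφ2 (fun x => ?_) (fun x => ?_) x
    · show φ (φ (φ (φ (φ (φ x))))) = x
      rw [hφ3, hφ3]
    · have h5 : j₀ x * j₂ x * j₁ x = j₀ x * j₁ x * j₂ x := by rw [mul_assoc, ← (h12 x x).eq, ← mul_assoc]
      rw [h5]
      exact h1 x
    · show j₀ x * j₂ (φ (φ x)) * j₁ (φ (φ (φ (φ x)))) ∈ H
      rw [hφ3 (φ x)]
      have h5 : j₀ x * j₂ (φ (φ x)) * j₁ (φ x) = j₀ x * j₁ (φ x) * j₂ (φ (φ x)) := by
        rw [mul_assoc, ← (h12 (φ x) (φ (φ x))).eq, ← mul_assoc]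
      rw [h5]
      exact h2 x
  refine ⟨?_, h4, h3⟩
  have h5 : j₀ x = (j₀ x * j₁ x * j₂ x) * (j₂ x)⁻¹ * (j₁ x)⁻¹ := by group
  rw [h5]
  exact mul_mem (mul_mem (h1 x) (inv_mem h3)) (inv_mem h4)

end Cfsg.Agent.H321.Mono
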